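import Groth.Agent.UnipMuLib.NoMu
import Groth.Agent.S11926
import Groth.Agent.Comodule.ConnDomain
import Groth.Agent.Comodule.Extra
import Groth.Prelude.Def_LieHopf

/-!
Connected groups in characteristic `p`: unipotence is seen on the Lie algebra.
-/

set_option autoImplicit false
set_option backward.isDefEq.respectTransparency false
set_option backward.isDefEq.respectTransparency.types false
set_option linter.unusedSectionVars false
set_option linter.style.haveILetI false
set_option maxHeartbeats 800000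
universe u

open TensorProduct WithConv

noncomputable section

namespace Groth.Agent.UnipMu

open Groth.Agent.Comodule

variable {k : Type u} [Field k] (p : ℕ)
variable {A : Type u} [CommRing A] [HopfAlgebra k A]

variable (k A) in
/-- The ideal of a Frobenius kernel. -/
def frobIdeal (q : ℕ) : Ideal A :=
  Ideal.span {x | ∃ b : A, Coalgebra.counit (R := k) b = 0 ∧ b ^ q = x}

theorem pow_mem_frobIdeal {q : ℕ} {b : A} (hb : Coalgebra.counit (R := k) b = 0) : b ^ q ∈ frobIdeal k A q :=
  Ideal.subset_span ⟨b, hb, rfl⟩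

theorem mk_pow {q : ℕ} [hp : Fact p.Prime] [CharP k p] {N : ℕ} (hq : q = p ^ N) (a : A) :
    Ideal.Quotient.mk (frobIdeal k A q) a ^ q =
      algebraMap k (A ⧸ frobIdeal k A q) (Coalgebra.counit (R := k) a ^ q) := by
  haveI := nontrivial_hopf (k := k) A
  haveI := charP_alg (k := k) p A
  haveI : ExpChar A p := ExpChar.prime hp.out
  subst hq
  have h := pow_mem_frobIdeal (k := k) (q := p ^ N) (b := a - algebraMap k A (Coalgebra.counit (R := k) a))
    (by rw [map_sub, Bialgebra.counit_algebraMap, sub_self])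
  rw [sub_pow_char_pow, ← map_pow] at h
  rw [← map_pow, Ideal.Quotient.eq.2 h]
  rfl

theorem isHopfIdeal_frobIdeal [hp : Fact p.Prime] [CharP k p] (N : ℕ) : (frobIdeal k A (p ^ N)).IsHopfIdeal k := by
  have hq : p ^ N ≠ 0 := pow_ne_zero _ hp.out.ne_zero
  set J := frobIdeal k A (p ^ N) with hJ
  have hε : J ≤ RingHom.ker (Bialgebra.counitAlgHom k A) := by
    refine Ideal.span_le.2 ?_
    rintro _ ⟨b, hb, rfl⟩
    rw [SetLike.mem_coe, RingHom.mem_ker, map_pow]
    show Coalgebra.counit (R := k) b ^ _ = 0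
    rw [hb, zero_pow hq]
  haveI : Nontrivial (A ⧸ J) := Ideal.Quotient.nontrivial_iff.2 fun h => by
    have := hε (h.symm ▸ (Submodule.mem_top : (1 : A) ∈ ⊤))
    simp at this
  let ev : A ⧸ J →ₐ[k] k := Ideal.Quotient.liftₐ J (Bialgebra.counitAlgHom k A) hε
  let ev2 : (A ⧸ J) ⊗[k] (A ⧸ J) →ₐ[k] k :=
    (Algebra.TensorProduct.lmul' k (S := k)).comp (Algebra.TensorProduct.map ev ev)
  haveI : Nontrivial ((A ⧸ J) ⊗[k] (A ⧸ J)) := ev2.toRingHom.domain_nontrivial
  haveI := charP_alg (k := k) p ((A ⧸ J) ⊗[k] (A ⧸ J))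
  haveI : ExpChar ((A ⧸ J) ⊗[k] (A ⧸ J)) p := ExpChar.prime hp.out
  haveI : ExpChar k p := ExpChar.prime hp.out
  have hfrob : ∀ w : (A ⧸ J) ⊗[k] (A ⧸ J), w ^ p ^ N = algebraMap k _ (ev2 w ^ p ^ N) := by
    intro w
    induction w with
    | zero => simp [zero_pow hq]
    | add y z hy hz => rw [add_pow_char_pow, hy, hz, ← map_add, map_add ev2, add_pow_char_pow]
    | tmul y z =>
      obtain ⟨a, rfl⟩ := Ideal.Quotient.mk_surjective y
      obtain ⟨c, rfl⟩ := Ideal.Quotient.mk_surjective z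
      rw [Algebra.TensorProduct.tmul_pow, mk_pow p rfl, mk_pow p rfl]
      show _ = algebraMap k _ ((Coalgebra.counit (R := k) a * Coalgebra.counit (R := k) c) ^ p ^ N)
      rw [mul_pow]
      simp only [Algebra.algebraMap_eq_smul_one, TensorProduct.smul_tmul_smul, Algebra.TensorProduct.one_def]
  let π := Ideal.Quotient.mkₐ k J
  let Φ : A →ₐ[k] (A ⧸ J) ⊗[k] (A ⧸ J) := (Algebra.TensorProduct.map π π).comp (Bialgebra.comulAlgHom k A)
  have hΦ : J ≤ RingHom.ker Φ := by
    refine Ideal.span_le.2 ?_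
    rintro _ ⟨b, hb, rfl⟩
    rw [SetLike.mem_coe, RingHom.mem_ker, map_pow, hfrob]
    have e : ev2 (Φ b) = (1 : WithConv (A →ₗ[k] k)).ofConv b := by
      rw [← _root_.one_mul (1 : WithConv (A →ₗ[k] k)), LinearMap.convMul_apply]
      show ev2 (Algebra.TensorProduct.map π π (Coalgebra.comul (R := k) b)) = _
      induction Coalgebra.comul (R := k) b with
      | zero => simp
      | add y z hy hz => simp only [map_add, hy, hz]
      | tmul y z => simp [ev2, ev, π, LinearMap.convOne_def]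
    rw [e, LinearMap.convOne_def]
    simp [hb, zero_pow hq]
  have hco : (J.restrictScalars k).IsCoideal := by
    refine ⟨fun a ha => hε ha, fun a ha => ?_⟩
    let σ : (A ⧸ J) →ₗ[k] A ⧸ J.restrictScalars k := (Submodule.Quotient.restrictScalarsEquiv k J).symm.toLinearMap
    have e : ∀ z : A ⊗[k] A, TensorProduct.map (J.restrictScalars k).mkQ (J.restrictScalars k).mkQ z =
        TensorProduct.map σ σ (Algebra.TensorProduct.map π π z) := by
      intro z
      induction z with
      | zero => simp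
      | add p q hp hq => simp only [map_add, hp, hq]
      | tmul p q => simp [σ, π, ← Ideal.Quotient.mk_eq_mk]
    have h0 := hΦ ha
    rw [RingHom.mem_ker, AlgHom.comp_apply, Bialgebra.comulAlgHom_apply] at h0
    rw [e, h0, map_zero]
  refine { hco with antipode_mem := fun a ha => ?_ }
  refine (Ideal.span_le.2 ?_ : J ≤ J.comap (HopfAlgebra.antipodeAlgHom k A)) ha
  rintro _ ⟨b, hb, rfl⟩
  rw [SetLike.mem_coe, Ideal.mem_comap, map_pow]
  refine pow_mem_frobIdeal ?_
  show Coalgebra.counit (R := k) (HopfAlgebra.antipode k b) = 0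
  rw [HopfAlgebra.counit_antipode, hb]

theorem finite_quot_frobIdeal [hp : Fact p.Prime] [CharP k p] [Algebra.FiniteType k A] (N : ℕ) :
    Module.Finite k (A ⧸ frobIdeal k A (p ^ N)) := by
  haveI : Algebra.FiniteType k (A ⧸ frobIdeal k A (p ^ N)) :=
    Algebra.FiniteType.of_surjective (Ideal.Quotient.mkₐ k _) Ideal.Quotient.mk_surjective
  haveI : Algebra.IsIntegral k (A ⧸ frobIdeal k A (p ^ N)) := ⟨fun y => by
    obtain ⟨a, rfl⟩ := Ideal.Quotient.mk_surjective y
    refine IsIntegral.of_pow (pow_pos hp.out.pos N) ?_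
    rw [mk_pow p rfl]
    exact isIntegral_algebraMap⟩
  exact Algebra.IsIntegral.finite

/-- A tangent vector kills the Frobenius kernel ideal. -/
theorem IsDer.vanish_frobIdeal [hp : Fact p.Prime] [CharP k p] {R : Type u} [CommRing R] [Algebra k R]
    (φ : A →ₗ[k] R) (hφ : ∀ a b, φ (a * b) =
      algebraMap k R (Coalgebra.counit (R := k) a) * φ b + φ a * algebraMap k R (Coalgebra.counit (R := k) b)) :
    ∀ a ∈ frobIdeal k A p, φ a = 0 := by
  have h1 : φ 1 = 0 := by
    have := hφ 1 1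
    simpa using this
  have hpow : ∀ (n : ℕ) (b : A),
      φ (b ^ (n + 1)) = (n + 1) • (algebraMap k R (Coalgebra.counit (R := k) b ^ n) * φ b) := by
    intro n
    induction n with
    | zero => intro b; simp
    | succ n ih =>
      intro b
      rw [pow_succ b, hφ, ih, Bialgebra.counit_pow]
      simp only [nsmul_eq_mul, map_pow, pow_succ]
      push_cast
      ring
  intro a ha
  have key : ∀ y, Coalgebra.counit (R := k) a = 0 ∧ φ (y * a) = 0 := by
    refine Submodule.span_induction (p := fun a _ => ∀ y, Coalgebra.counit (R := k) a = 0 ∧ φ (y * a) = 0)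
      ?_ ?_ ?_ ?_ ha
    · rintro _ ⟨b, hb, rfl⟩ y
      have hε : Coalgebra.counit (R := k) (b ^ p) = 0 := by rw [Bialgebra.counit_pow, hb, zero_pow hp.out.ne_zero]
      refine ⟨hε, ?_⟩
      obtain ⟨m, hm⟩ := Nat.exists_eq_succ_of_ne_zero hp.out.ne_zero
      have hp0 : (p : R) = 0 := by rw [← map_natCast (algebraMap k R), CharP.cast_eq_zero, map_zero]
      have hb' : φ (b ^ p) = 0 := by
        rw [hm, hpow, nsmul_eq_mul, show ((m + 1 : ℕ) : R) = 0 by rw [← Nat.succ_eq_add_one, ← hm]; exact hp0, zero_mul]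
      rw [hφ, hε, hb', mul_zero, map_zero, mul_zero, add_zero]
    · intro y; simp
    · intro x z _ _ hx hz y
      exact ⟨by rw [map_add, (hx y).1, (hz y).1, add_zero], by rw [mul_add, map_add, (hx y).2, (hz y).2, add_zero]⟩
    · intro c x _ hx y
      refine ⟨?_, by rw [smul_eq_mul, ← mul_assoc]; exact (hx (y * c)).2⟩
      rw [smul_eq_mul, Bialgebra.counit_mul, (hx y).1, mul_zero]
  simpa using (key 1).2

/-- A tangent vector comes from the kernel of Frobenius. -/
theorem IsDer.exists_frobKer [hp : Fact p.Prime] [CharP k p] {D : WithConv (A →ₗ[k] k)} (hD : IsDer D) :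
    haveI : (frobIdeal k A (p ^ 1)).IsHopfIdeal k := isHopfIdeal_frobIdeal p 1
    ∃ D' : WithConv (A ⧸ frobIdeal k A (p ^ 1) →ₗ[k] k), IsDer (k := k) (A := A ⧸ frobIdeal k A (p ^ 1)) D' ∧
      ∀ a, D'.ofConv (Ideal.Quotient.mk _ a) = D.ofConv a := by
  haveI : (frobIdeal k A (p ^ 1)).IsHopfIdeal k := isHopfIdeal_frobIdeal p 1
  have hv : ∀ a ∈ frobIdeal k A (p ^ 1), D.ofConv a = 0 := by
    rw [pow_one]
    exact IsDer.vanish_frobIdeal p D.ofConv fun a b => hD a b
  refine ⟨toConv ((((frobIdeal k A (p ^ 1)).restrictScalars k).liftQ D.ofConv fun a ha => hv a ha) ∘ₗ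
    (Submodule.Quotient.restrictScalarsEquiv k _).symm.toLinearMap), fun y z => ?_, fun a => ?_⟩
  · obtain ⟨a, rfl⟩ := Ideal.Quotient.mk_surjective y
    obtain ⟨b, rfl⟩ := Ideal.Quotient.mk_surjective z
    rw [← map_mul, Bialgebra.Quotient.counit_mk, Bialgebra.Quotient.counit_mk]
    simpa [← Ideal.Quotient.mk_eq_mk] using hD a b
  · simp [← Ideal.Quotient.mk_eq_mk]

/-- Without `μ_p` every tangent vector is nilpotent. -/
theorem isNilpotent_der_of_no_mu_p [IsAlgClosed k] [hp : Fact p.Prime] [CharP k p] [Algebra.FiniteType k A]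
    (hμ : ¬ ∃ φ : A →ₐc[k] MonoidAlgebra k (Multiplicative (ZMod p)), Function.Surjective φ)
    {D : WithConv (A →ₗ[k] k)} (hD : IsDer D) : IsNilpotent D := by
  haveI : (frobIdeal k A (p ^ 1)).IsHopfIdeal k := isHopfIdeal_frobIdeal p 1
  haveI : Algebra.FiniteType k (A ⧸ frobIdeal k A (p ^ 1)) :=
    Algebra.FiniteType.of_surjective (Ideal.Quotient.mkₐ k _) Ideal.Quotient.mk_surjective
  let π := Bialgebra.Quotient.mkBialgHom (R := k) (frobIdeal k A (p ^ 1))
  obtain ⟨D', hD', hDD⟩ := hD.exists_frobKer p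
  obtain ⟨n, hn⟩ := isNilpotent_der p hD' fun m hm ⟨ψ, hψ⟩ => by
    rcases eq_or_ne m p with rfl | hne
    · exact hμ ⟨ψ.comp π, hψ.comp Ideal.Quotient.mk_surjective⟩
    · set g := MonoidAlgebra.of k (Multiplicative (ZMod m)) (Multiplicative.ofAdd 1) with hg
      obtain ⟨y, hy⟩ := hψ g
      obtain ⟨a, rfl⟩ := Ideal.Quotient.mk_surjective y
      have h1 : Coalgebra.counit (R := k) a = 1 := by
        have h2 := CoalgHomClass.counit_comp_apply ψ (Ideal.Quotient.mk (frobIdeal k A (p ^ 1)) a)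
        rw [hy, Bialgebra.Quotient.counit_mk] at h2
        rw [← h2]
        simp [g, MonoidAlgebra.of_apply]
      have h3 : g ^ p ^ 1 = 1 := by
        rw [← hy, ← map_pow, mk_pow p rfl, h1, one_pow, map_one, map_one]
      haveI : Fact (1 < m) := ⟨hm.one_lt⟩
      rw [pow_one, hg, ← map_pow, ← map_one (MonoidAlgebra.of k (Multiplicative (ZMod m)))] at h3
      have h4 := congrArg Multiplicative.toAdd (MonoidAlgebra.of_injective h3)
      simp only [toAdd_pow, toAdd_ofAdd, nsmul_eq_mul, _root_.mul_one, toAdd_one] at h4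
      exact hne ((Nat.prime_dvd_prime_iff_eq hm hp.out).1 ((ZMod.natCast_eq_zero_iff _ _).1 h4))
  refine ⟨n, ?_⟩
  have hDπ : toConv (D'.ofConv ∘ₗ π.toLinearMap) = D := WithConv.ext (LinearMap.ext hDD)
  rw [← hDπ, ← pow_comp_proj π D', hn]
  rfl

/-- An integral group over an algebraically closed field with nilpotent tangent vectors is unipotent. -/
theorem isUnipotent_of_isDomain [IsAlgClosed k] [hp : Fact p.Prime] [CharP k p] [Algebra.FiniteType k A] [IsDomain A]
    (hL : ∀ f : WithConv (A →ₗ[k] k), IsDer f → IsNilpotent f) : HopfRep.IsUnipotent k A := by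
  haveI : IsNoetherianRing A := Algebra.FiniteType.isNoetherianRing k A
  intro V _ _ _ hfin hnt
  haveI : ∀ N, (frobIdeal k A (p ^ N)).IsHopfIdeal k := fun N => isHopfIdeal_frobIdeal p N
  let π := fun N => Bialgebra.Quotient.mkBialgHom (R := k) (frobIdeal k A (p ^ N))
  have hNu : ∀ N, HopfRep.IsUnipotent k (A ⧸ frobIdeal k A (p ^ N)) := by
    intro N
    haveI : Algebra.FiniteType k (A ⧸ frobIdeal k A (p ^ N)) :=
      Algebra.FiniteType.of_surjective (Ideal.Quotient.mkₐ k _) Ideal.Quotient.mk_surjective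
    refine isUnipotent_of_reduced_quot_and_der p _ (fun B _ _ _ _ φ hφ => ?_) fun f hf => ?_
    · refine isUnipotent_iff_fil.2 fun b => ⟨1, ?_⟩
      obtain ⟨y, rfl⟩ := hφ b
      obtain ⟨a, rfl⟩ := Ideal.Quotient.mk_surjective y
      haveI := nontrivial_hopf (k := k) B
      haveI := charP_alg (k := k) p B
      haveI : ExpChar B p := ExpChar.prime hp.out
      have h : φ (Ideal.Quotient.mk _ a) = algebraMap k B (Coalgebra.counit (R := k) a) := by
        rw [← sub_eq_zero]
        refine IsNilpotent.eq_zero ⟨p ^ N, ?_⟩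
        rw [sub_pow_char_pow, ← map_pow φ, mk_pow p rfl, AlgHomClass.commutes, map_pow, sub_self]
      rw [h, Algebra.algebraMap_eq_smul_one, fil_one, fixedPts_regular]
      exact Submodule.smul_mem _ _ (Submodule.mem_span_singleton_self 1)
    · obtain ⟨n, hn⟩ := hL (toConv (f.ofConv ∘ₗ (π N).toLinearMap)) fun a b => by
        show f.ofConv (π N (a * b)) = _
        rw [map_mul, hf, CoalgHomClass.counit_comp_apply, CoalgHomClass.counit_comp_apply]
        rfl
      refine ⟨n, WithConv.ext (LinearMap.ext fun y => ?_)⟩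
      obtain ⟨a, rfl⟩ := Ideal.Quotient.mk_surjective y
      exact congrArg (fun g => g.ofConv a) ((pow_comp_proj (π N) f n).trans hn)
  let L : ∀ N, V →ₗ[k] V ⊗[k] (A ⧸ frobIdeal k A (p ^ N)) := fun N =>
    ((Ideal.Quotient.mkₐ k (frobIdeal k A (p ^ N))).toLinearMap.lTensor V).comp (HopfRep.Comod.coact (k := k) (A := A)) -
      (TensorProduct.mk k V (A ⧸ frobIdeal k A (p ^ N))).flip 1
  let W : ℕ → Submodule k V := fun N => LinearMap.ker (L N)
  have hWne : ∀ N, W N ≠ ⊥ := by
    intro N h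
    obtain ⟨v, hv, hv0⟩ := Submodule.exists_mem_ne_zero_of_ne_bot
      (letI := pushComod V ((π N) : A →ₗc[k] A ⧸ frobIdeal k A (p ^ N)); hNu N V hfin hnt)
    refine hv0 ((Submodule.mem_bot k).1 (h ▸ (?_ : v ∈ W N)))
    show L N v = 0
    exact sub_eq_zero.2 hv
  have hJ : ∀ M N, N ≤ M → frobIdeal k A (p ^ M) ≤ frobIdeal k A (p ^ N) := by
    intro M N h
    refine Ideal.span_le.2 ?_
    rintro _ ⟨b, hb, rfl⟩
    rw [← Nat.add_sub_cancel' h, pow_add, pow_mul]
    exact Ideal.pow_mem_of_mem _ (pow_mem_frobIdeal hb) _ (pow_pos hp.out.pos _)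
  have hanti : ∀ M N, N ≤ M → W M ≤ W N := by
    intro M N h v hv
    let ρ : A ⧸ frobIdeal k A (p ^ M) →ₐ[k] A ⧸ frobIdeal k A (p ^ N) :=
      Ideal.Quotient.liftₐ _ (Ideal.Quotient.mkₐ k _) fun a ha => Ideal.Quotient.eq_zero_iff_mem.2 (hJ M N h ha)
    have hv' : ((Ideal.Quotient.mkₐ k (frobIdeal k A (p ^ M))).toLinearMap.lTensor V) (HopfRep.Comod.coact (k := k) (A := A) v) = v ⊗ₜ 1 :=
      sub_eq_zero.1 hv
    have h2 := congrArg (ρ.toLinearMap.lTensor V) hv'
    rw [← LinearMap.lTensor_comp_apply, LinearMap.lTensor_tmul, AlgHom.toLinearMap_apply, map_one] at h2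
    show L N v = 0
    exact sub_eq_zero.2 h2
  obtain ⟨N₀, hN₀⟩ : ∃ N₀, ∀ N, Module.finrank k (W N₀) ≤ Module.finrank k (W N) := by
    let s : Set ℕ := Set.range fun N => Module.finrank k (W N)
    obtain ⟨N₀, h⟩ := Nat.sInf_mem (s := s) ⟨_, 0, rfl⟩
    exact ⟨N₀, fun N => h.le.trans (Nat.sInf_le ⟨N, rfl⟩)⟩
  obtain ⟨v, hv, hv0⟩ := Submodule.exists_mem_ne_zero_of_ne_bot (hWne N₀)
  have hall : ∀ N, v ∈ W N := fun N => by
    rcases le_total N₀ N with h | h
    · rw [Submodule.eq_of_le_of_finrank_le (hanti N N₀ h) (hN₀ N)]; exact hv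
    · exact hanti N₀ N h hv
  intro hbot
  refine hv0 ((Submodule.mem_bot k).1 (hbot ▸ (?_ : v ∈ HopfRep.fixedPts k A V)))
  show HopfRep.Comod.coact (k := k) (A := A) v = v ⊗ₜ[k] (1 : A)
  refine ext_lcon fun φ => sub_eq_zero.1 ((Submodule.mem_bot A).1 ?_)
  rw [← Ideal.iInf_pow_eq_bot_of_isDomain (RingHom.ker (Bialgebra.counitAlgHom k A)) (RingHom.ker_ne_top _),
    Submodule.mem_iInf]
  intro n
  have hv' : ((Ideal.Quotient.mkₐ k (frobIdeal k A (p ^ n))).toLinearMap.lTensor V) (HopfRep.Comod.coact (k := k) (A := A) v) = v ⊗ₜ 1 :=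
    sub_eq_zero.1 (hall n)
  have h2 := congrArg (lcon φ) hv'
  have e : ∀ z : V ⊗[k] A, lcon φ (((Ideal.Quotient.mkₐ k (frobIdeal k A (p ^ n))).toLinearMap.lTensor V) z) = Ideal.Quotient.mkₐ k (frobIdeal k A (p ^ n)) (lcon φ z) := by
    intro z
    induction z with
    | zero => simp
    | add y w hy hw => simp only [map_add, hy, hw]
    | tmul y w => simp
  have e' := e (v ⊗ₜ (1 : A))
  rw [LinearMap.lTensor_tmul, AlgHom.toLinearMap_apply, map_one] at e'
  rw [e, e'] at h2
  have h3 : lcon φ (HopfRep.Comod.coact (k := k) (A := A) v) - lcon φ (v ⊗ₜ[k] (1 : A)) ∈ frobIdeal k A (p ^ n) :=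
    Ideal.Quotient.eq.1 h2
  refine (Ideal.span_le.2 ?_ : frobIdeal k A (p ^ n) ≤ RingHom.ker (Bialgebra.counitAlgHom k A) ^ n) h3
  rintro _ ⟨b, hb, rfl⟩
  exact Ideal.pow_le_pow_right (Nat.lt_pow_self hp.out.one_lt).le (Ideal.pow_mem_pow (show b ∈ RingHom.ker (Bialgebra.counitAlgHom k A) from hb) _)

/-- A connected group over an algebraically closed field with nilpotent tangent vectors is unipotent. -/
theorem isUnipotent_of_der [IsAlgClosed k] [hp : Fact p.Prime] [CharP k p] [Algebra.FiniteType k A]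
    (hconn : ∀ e : A, IsIdempotentElem e → e = 0 ∨ e = 1)
    (hL : ∀ f : WithConv (A →ₗ[k] k), IsDer f → IsNilpotent f) : HopfRep.IsUnipotent k A := by
  haveI : IsNoetherianRing A := Algebra.FiniteType.isNoetherianRing k A
  refine isUnipotent_of_reduced_quot_and_der p A (fun B _ _ _ _ φ hφ => ?_) hL
  haveI : (nilradical A).IsHopfIdeal k := S11926.result k A
  haveI : IsReduced (A ⧸ nilradical A) := (Ideal.isRadical_iff_quotient_reduced _).mp (Ideal.radical_isRadical ⊥)
  haveI : Algebra.FiniteType k (A ⧸ nilradical A) :=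
    Algebra.FiniteType.of_surjective (Ideal.Quotient.mkₐ k _) Ideal.Quotient.mk_surjective
  haveI : IsDomain (A ⧸ nilradical A) := Comodule.ConnDomain.isDomain_of_connected k fun e he => by
    obtain ⟨e', he', rfl⟩ := exists_isIdempotentElem_eq_of_ker_isNilpotent (Ideal.Quotient.mk (nilradical A))
      (fun x hx => mem_nilradical.1 (Ideal.Quotient.eq_zero_iff_mem.1 hx)) e (Ideal.Quotient.mk_surjective e) he
    rcases hconn e' he' with rfl | rfl <;> simp
  let π : A →ₐc[k] A ⧸ nilradical A := Bialgebra.Quotient.mkBialgHom (R := k) _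
  have hU : HopfRep.IsUnipotent k (A ⧸ nilradical A) := by
    refine isUnipotent_of_isDomain p fun f hf => ?_
    obtain ⟨n, hn⟩ := hL (toConv (f.ofConv ∘ₗ π.toLinearMap)) fun a b => by
      show f.ofConv (π (a * b)) = _
      rw [map_mul, hf, CoalgHomClass.counit_comp_apply, CoalgHomClass.counit_comp_apply]
      rfl
    refine ⟨n, WithConv.ext (LinearMap.ext fun y => ?_)⟩
    obtain ⟨a, rfl⟩ := Ideal.Quotient.mk_surjective y
    exact congrArg (fun g => g.ofConv a) ((pow_comp_proj π f n).trans hn)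
  have hle : nilradical A ≤ RingHom.ker (φ : A →ₐ[k] B) := fun a ha =>
    ((mem_nilradical.1 ha).map (φ : A →ₐ[k] B)).eq_zero
  let φ₀ : A ⧸ nilradical A →ₐ[k] B := Ideal.Quotient.liftₐ _ (φ : A →ₐ[k] B) hle
  have h0 : ∀ a, φ₀ (π a) = φ a := fun a => rfl
  let φc : A ⧸ nilradical A →ₐc[k] B := BialgHom.ofAlgHom φ₀
    (Ideal.Quotient.algHom_ext k (AlgHom.ext fun a => by
      show Coalgebra.counit (R := k) (φ₀ (π a)) = Coalgebra.counit (R := k) (π a)
      rw [h0, CoalgHomClass.counit_comp_apply, CoalgHomClass.counit_comp_apply]))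
    (Ideal.Quotient.algHom_ext k (AlgHom.ext fun a => by
      show Algebra.TensorProduct.map φ₀ φ₀ (Coalgebra.comul (R := k) (π a)) = Coalgebra.comul (R := k) (φ₀ (π a))
      rw [h0, ← CoalgHomClass.map_comp_comul_apply π, ← CoalgHomClass.map_comp_comul_apply φ]
      induction Coalgebra.comul (R := k) a with
      | zero => simp
      | add y z hy hz => simp only [map_add, hy, hz]
      | tmul y z => rfl))
  refine isUnipotent_iff_fil.2 fun b => ?_
  obtain ⟨a, rfl⟩ := hφ b
  obtain ⟨n, hn⟩ := isUnipotent_iff_fil.1 hU (π a)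
  exact ⟨n, fil_map φc hn⟩

/-- Tangent vectors of a unipotent group are nilpotent. -/
theorem isNilpotent_der_of_unipotent [hp : Fact p.Prime] [CharP k p] [Algebra.FiniteType k A]
    (hU : HopfRep.IsUnipotent k A) {D : WithConv (A →ₗ[k] k)} (hD : IsDer D) : IsNilpotent D := by
  classical
  obtain ⟨S, hS⟩ := (Algebra.FiniteType.out : (⊤ : Subalgebra k A).FG)
  choose N hN using isUnipotent_iff_fil.1 hU
  let n := S.sup N + 1
  have hle : S.sup N ≤ p ^ n := ((Nat.le_succ _).trans (Nat.lt_pow_self (Fact.out : p.Prime).one_lt).le)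
  have hd : IsDer (D ^ p ^ n) := fun a b => S2968.der_pow (p := p) D hD n a b
  refine ⟨p ^ n, WithConv.ext (LinearMap.ext fun y => ?_)⟩
  show (D ^ p ^ n).ofConv y = 0
  have ha : y ∈ Algebra.adjoin k (S : Set A) := by rw [hS]; exact Algebra.mem_top
  induction ha using Algebra.adjoin_induction with
  | mem x hx => exact (Van.pow (van_one_iff.2 hD.one) (p ^ n)).mono ((Finset.le_sup hx).trans hle) x (hN x)
  | algebraMap r => rw [Algebra.algebraMap_eq_smul_one, map_smul, hd.one, smul_zero]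
  | add x y _ _ hx hy => rw [map_add, hx, hy, add_zero]
  | mul x y _ _ hx hy => rw [hd x y, hx, hy, mul_zero, zero_mul, add_zero]

section BaseChange

variable (K : Type u) [Field K] [Algebra k K]

/-- Nilpotence of the tangent vectors passes to an extension of the base field. -/
theorem isNilpotent_der_baseChange [hp : Fact p.Prime] [CharP k p] [Algebra.FiniteType k A]
    (hL : ∀ f : WithConv (A →ₗ[k] k), IsDer f → IsNilpotent f)
    (f : WithConv (K ⊗[k] A →ₗ[K] K)) (hf : IsDer f) : IsNilpotent f := by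
  haveI : CharP K p := charP_of_injective_algebraMap (algebraMap k K).injective p
  haveI : (frobIdeal k A (p ^ 1)).IsHopfIdeal k := isHopfIdeal_frobIdeal p 1
  haveI : Algebra.FiniteType k (A ⧸ frobIdeal k A (p ^ 1)) :=
    Algebra.FiniteType.of_surjective (Ideal.Quotient.mkₐ k _) Ideal.Quotient.mk_surjective
  haveI : Module.Finite k (A ⧸ frobIdeal k A (p ^ 1)) := finite_quot_frobIdeal p 1
  let π := Bialgebra.Quotient.mkBialgHom (R := k) (frobIdeal k A (p ^ 1))
  have hU : HopfRep.IsUnipotent k (A ⧸ frobIdeal k A (p ^ 1)) := by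
    refine isUnipotent_heightOne (p := p) (fun y hy => ?_) fun g hg => ?_
    · obtain ⟨a, rfl⟩ := Ideal.Quotient.mk_surjective y
      have h := mk_pow (k := k) (A := A) p (q := p ^ 1) rfl a
      rw [show Coalgebra.counit (R := k) a = 0 from (CoalgHomClass.counit_comp_apply π a).symm.trans hy,
        zero_pow (pow_ne_zero _ hp.out.ne_zero), map_zero] at h
      simpa using h
    · obtain ⟨n, hn⟩ := hL (toConv (g.ofConv ∘ₗ π.toLinearMap)) fun a b => by
        show g.ofConv (π (a * b)) = _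
        rw [map_mul, hg, CoalgHomClass.counit_comp_apply, CoalgHomClass.counit_comp_apply]
        rfl
      refine ⟨n, WithConv.ext (LinearMap.ext fun y => ?_)⟩
      obtain ⟨a, rfl⟩ := Ideal.Quotient.mk_surjective y
      exact congrArg (fun g => g.ofConv a) ((pow_comp_proj π g n).trans hn)
  have hUK := (unipotent_baseChange_iff (K := K)).1 hU
  let πK := Bialgebra.TensorProduct.map (BialgHom.id K K) π
  have hπK : Function.Surjective πK := fun z => by
    induction z with
    | zero => exact ⟨0, map_zero _⟩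
    | add y w hy hw =>
      obtain ⟨y, rfl⟩ := hy
      obtain ⟨w, rfl⟩ := hw
      exact ⟨y + w, map_add _ y w⟩
    | tmul c y =>
      obtain ⟨a, rfl⟩ := Ideal.Quotient.mk_surjective y
      exact ⟨c ⊗ₜ a, rfl⟩
  let φ : A →ₗ[k] K := (f.ofConv.restrictScalars k).comp (TensorProduct.mk k K A 1)
  have hε : ∀ a : A, Coalgebra.counit (R := K) ((1 : K) ⊗ₜ[k] a) = algebraMap k K (Coalgebra.counit (R := k) a) :=
    fun a => by simp [Algebra.algebraMap_eq_smul_one]
  have hφ : ∀ a b, φ (a * b) =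
      algebraMap k K (Coalgebra.counit (R := k) a) * φ b + φ a * algebraMap k K (Coalgebra.counit (R := k) b) := by
    intro a b
    show f.ofConv ((1 : K) ⊗ₜ[k] (a * b)) = _ * f.ofConv ((1 : K) ⊗ₜ[k] b) + f.ofConv ((1 : K) ⊗ₜ[k] a) * _
    rw [← hε, ← hε, ← hf, Algebra.TensorProduct.tmul_mul_tmul, _root_.one_mul]
  have hv : ∀ a ∈ frobIdeal k A (p ^ 1), φ a = 0 := by
    rw [pow_one]
    exact IsDer.vanish_frobIdeal p φ hφ
  let φb : A ⧸ frobIdeal k A (p ^ 1) →ₗ[k] K :=
    ((frobIdeal k A (p ^ 1)).restrictScalars k).liftQ φ hv ∘ₗ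
      (Submodule.Quotient.restrictScalarsEquiv k _).symm.toLinearMap
  let g : WithConv (K ⊗[k] (A ⧸ frobIdeal k A (p ^ 1)) →ₗ[K] K) := toConv (φb.liftBaseChange K)
  have hgf : toConv (g.ofConv ∘ₗ πK.toLinearMap) = f := by
    refine WithConv.ext (LinearMap.ext fun z => ?_)
    show g.ofConv (πK z) = _
    induction z with
    | zero => simp
    | add y w hy hw => simp only [map_add, hy, hw]
    | tmul c a =>
      show φb.liftBaseChange K (c ⊗ₜ[k] Ideal.Quotient.mk _ a) = _
      rw [LinearMap.liftBaseChange_tmul, show c ⊗ₜ[k] a = c • ((1 : K) ⊗ₜ[k] a) by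
        rw [TensorProduct.smul_tmul', smul_eq_mul, _root_.mul_one], map_smul]
      congr 1
  have hg : IsDer g := fun y w => by
    obtain ⟨y, rfl⟩ := hπK y
    obtain ⟨w, rfl⟩ := hπK w
    rw [← map_mul, CoalgHomClass.counit_comp_apply, CoalgHomClass.counit_comp_apply]
    have h := fun z => congrArg (fun e => e.ofConv z) hgf
    show g.ofConv (πK (y * w)) = _
    rw [show g.ofConv (πK (y * w)) = f.ofConv (y * w) from h _,
      show g.ofConv (πK y) = f.ofConv y from h _, show g.ofConv (πK w) = f.ofConv w from h _]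
    exact hf y w
  haveI : Algebra.FiniteType K (K ⊗[k] (A ⧸ frobIdeal k A (p ^ 1))) := inferInstance
  obtain ⟨n, hn⟩ := isNilpotent_der_of_unipotent p hUK hg
  exact ⟨n, by rw [← hgf, ← pow_comp_proj πK g, hn]; rfl⟩

end BaseChange

end Groth.Agent.UnipMu
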