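import Groth.Agent.UnipMuLib.Frob

/-!
A group over an algebraically closed field is unipotent exactly when it contains no `μ_n`.
-/

set_option autoImplicit false
set_option backward.isDefEq.respectTransparency false
set_option linter.unusedSectionVars false
set_option linter.style.haveILetI false
universe u

open TensorProduct WithConv

noncomputable section

namespace Groth.Agent.UnipMu

open Groth.Agent.Comodule

variable {k : Type u} [Field k] {A : Type u} [CommRing A] [HopfAlgebra k A] [Algebra.FiniteType k A]

/-- A unipotent group contains no `μ_n`. -/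
theorem not_exists_mu (hA : HopfRep.IsUnipotent k A) (n : ℕ) (hn : 1 < n) :
    ¬ ∃ φ : A →ₐc[k] MonoidAlgebra k (Multiplicative (ZMod n)), Function.Surjective φ := by
  rintro ⟨φ, hφ⟩
  haveI : Fact (1 < n) := ⟨hn⟩
  have hfil : ∀ b : MonoidAlgebra k (Multiplicative (ZMod n)),
      ∃ m, b ∈ fil k (MonoidAlgebra k (Multiplicative (ZMod n))) (MonoidAlgebra k (Multiplicative (ZMod n))) m := by
    intro b
    obtain ⟨a, rfl⟩ := hφ b
    obtain ⟨m, hm⟩ := isUnipotent_iff_fil.mp hA a
    exact ⟨m, fil_map φ hm⟩
  have h := UnipH7.groupLike_eq_one hfil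
    (MonoidAlgebra.isGroupLikeElem_single_one (R := k) (A := k) (Multiplicative.ofAdd (1 : ZMod n)))
  rw [MonoidAlgebra.one_def] at h
  have h2 := MonoidAlgebra.single_left_injective (R := k) (M := Multiplicative (ZMod n)) one_ne_zero h
  exact one_ne_zero (α := ZMod n) (ofAdd_eq_one.1 h2)

/-- Over an algebraically closed field, no `μ_n` forces unipotence. -/
theorem isUnipotent_of_no_mu [IsAlgClosed k]
    (hμ : ∀ n : ℕ, n.Prime → ¬ ∃ φ : A →ₐc[k] MonoidAlgebra k (Multiplicative (ZMod n)), Function.Surjective φ) :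
    HopfRep.IsUnipotent k A := by
  rcases CharP.char_is_prime_or_zero k (ringChar k) with hp | h0
  · haveI : Fact (ringChar k).Prime := ⟨hp⟩
    refine isUnipotent_of_reduced_quot_and_der (ringChar k) A (fun B _ _ _ _ φ hφ => isUnipotent_of_reduced ?_)
      fun f hf => isNilpotent_der (ringChar k) hf hμ
    rintro n hn ⟨ψ, hψ⟩
    exact hμ n hn ⟨ψ.comp φ, hψ.comp hφ⟩
  · haveI : CharP k 0 := h0 ▸ ringChar.charP k
    haveI : CharZero k := CharP.charP_to_charZero k
    haveI : IsReduced A := HopfGr.isReduced_charZero (k := k)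
    exact isUnipotent_of_reduced hμ

end Groth.Agent.UnipMu
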