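import Groth.Agent.UnipH7.Basic
import Groth.Agent.CommUnipLib.Main
import Groth.Agent.Comodule.Antipode
import Groth.Agent.Comodule.UnipotentDual
import Groth.Agent.MultType.Field
import Groth.Agent.MultType.Cover
import Groth.Agent.PBW.RestrictedHopf
import Groth.Agent.S2968
import Groth.Agent.S7987

/-!
Commutative subgroups generated by one point or one infinitesimal element, and their subgroups `μ_n`.
-/

set_option autoImplicit false
set_option backward.isDefEq.respectTransparency false
set_option linter.unusedSectionVars false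
set_option linter.style.haveILetI false
set_option maxHeartbeats 800000
universe u

open TensorProduct WithConv

noncomputable section

namespace Groth.Agent.UnipMu

open Groth.Agent.Comodule

variable {k : Type u} [Field k] {A : Type u} [CommRing A] [HopfAlgebra k A]

theorem conv_apply_smul (f g : WithConv (A →ₗ[k] k)) (a : A) : f.ofConv (g • a) = (f * g).ofConv a := by
  rw [smul_def, dact, LinearMap.comp_apply, coact_regular, LinearMap.convMul_apply]
  induction Coalgebra.comul (R := k) a with
  | zero => simp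
  | add p q hp hq => simp only [map_add, hp, hq]
  | tmul p q => simp [mul_comm]

theorem conv_apply_lcon (f g : WithConv (A →ₗ[k] k)) (a : A) :
    g.ofConv (lcon f.ofConv (Coalgebra.comul (R := k) a)) = (f * g).ofConv a := by
  rw [LinearMap.convMul_apply]
  induction Coalgebra.comul (R := k) a with
  | zero => simp
  | add p q hp hq => simp only [map_add, hp, hq]
  | tmul p q => simp

/-- A derivation at the counit. -/
def IsDer (f : WithConv (A →ₗ[k] k)) : Prop :=
  ∀ a b : A, f.ofConv (a * b) = Coalgebra.counit (R := k) a * f.ofConv b + f.ofConv a * Coalgebra.counit (R := k) b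

theorem IsDer.one {f : WithConv (A →ₗ[k] k)} (h : IsDer f) : f.ofConv 1 = 0 := by
  have := h 1 1
  simpa using this

theorem IsDer.leibniz {f : WithConv (A →ₗ[k] k)} (h : IsDer f) (a b : A) :
    f • (a * b) = a * (f • b) + (f • a) * b := by
  have h0 : ∀ x : A, lcon (C := A) (Coalgebra.counit (R := k)) (Coalgebra.comul (R := k) x) = x := fun x =>
    lcon_counit_comul x
  have hr : ∀ x : A, rcon (Coalgebra.counit (R := k)) (Coalgebra.comul (R := k) x) = x := fun x => by
    have h2 : ∀ z : A ⊗[k] A, rcon (Coalgebra.counit (R := k)) z =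
        TensorProduct.rid k A ((Coalgebra.counit (R := k)).lTensor A z) := by
      intro z
      induction z with
      | zero => simp
      | add p q hp hq => simp only [map_add, hp, hq]
      | tmul p q => simp
    rw [h2, Coalgebra.lTensor_counit_comul]
    simp
  simp only [smul_def, dact, LinearMap.comp_apply, coact_regular]
  rw [Bialgebra.comul_mul]
  conv_rhs => enter [1, 1]; rw [← hr a]
  conv_rhs => enter [2, 2]; rw [← hr b]
  induction Coalgebra.comul (R := k) a with
  | zero => simp
  | add p q hp hq => simp only [add_mul, map_add, hp, hq]; ring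
  | tmul p q =>
    induction Coalgebra.comul (R := k) b with
    | zero => simp
    | add r s hr hs => simp only [mul_add, map_add, hr, hs]; ring
    | tmul r s =>
      simp only [Algebra.TensorProduct.tmul_mul_tmul, rcon_tmul, h q s, Algebra.smul_def, map_add, map_mul]
      ring

/-- The quotient by the common zeros of a commuting family of functionals. -/
theorem exists_comm_quot {Φ : Set (WithConv (A →ₗ[k] k))} (h1 : (1 : WithConv (A →ₗ[k] k)) ∈ Φ)
    (hmul : ∀ φ ∈ Φ, ∀ ψ ∈ Φ, φ * ψ ∈ Φ ∧ φ * ψ = ψ * φ)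
    (hideal : ∀ x a : A, (∀ φ ∈ Φ, φ.ofConv a = 0) → ∀ φ ∈ Φ, φ.ofConv (x * a) = 0)
    (hS : ∀ a : A, (∀ φ ∈ Φ, φ.ofConv a = 0) → ∀ φ ∈ Φ, φ.ofConv (HopfAlgebra.antipode k a) = 0) :
    ∃ (I : Ideal A) (_ : I.IsHopfIdeal k), Coalgebra.IsCocomm k (A ⧸ I) ∧
      ∀ a, a ∈ I ↔ ∀ φ ∈ Φ, φ.ofConv a = 0 := by
  let I : Ideal A :=
    { carrier := {a | ∀ φ ∈ Φ, φ.ofConv a = 0}
      zero_mem' := fun φ _ => map_zero _
      add_mem' := fun {a b} ha hb φ hφ => by rw [map_add, ha φ hφ, hb φ hφ, add_zero]
      smul_mem' := fun c a ha φ hφ => hideal c a ha φ hφ }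
  let Q := A ⧸ (I.restrictScalars k)
  let bar : ∀ φ ∈ Φ, Q →ₗ[k] k := fun φ hφ =>
    (I.restrictScalars k).liftQ φ.ofConv (fun a ha => ha φ hφ)
  have hbar : ∀ φ hφ (a : A), bar φ hφ (Submodule.Quotient.mk a) = φ.ofConv a := fun φ hφ a => rfl
  have hsep : ∀ x : Q, (∀ φ hφ, bar φ hφ x = 0) → x = 0 := by
    intro x hx
    obtain ⟨a, rfl⟩ := Submodule.Quotient.mk_surjective _ x
    exact (Submodule.Quotient.mk_eq_zero _).2 fun φ hφ => (hbar φ hφ a).symm.trans (hx φ hφ)
  have hsep2 : ∀ z : Q ⊗[k] Q, (∀ φ hφ ψ hψ, bar φ hφ (rcon (bar ψ hψ) z) = 0) → z = 0 := by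
    intro z hz
    refine ext_lcon fun θ => ?_
    rw [map_zero]
    refine hsep _ fun ψ hψ => ?_
    have h3 : bar ψ hψ (lcon θ z) = θ (rcon (bar ψ hψ) z) := by
      clear hz
      induction z with
      | zero => simp
      | add p q hp hq => simp only [map_add, hp, hq]
      | tmul p q => simp [mul_comm]
    rw [h3, hsep _ fun φ hφ => hz φ hφ ψ hψ, map_zero]
  have hpair : ∀ (a : A) φ hφ ψ hψ, bar φ hφ (rcon (bar ψ hψ)
      (TensorProduct.map (I.restrictScalars k).mkQ (I.restrictScalars k).mkQ (Coalgebra.comul (R := k) a))) =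
      (φ * ψ).ofConv a := by
    intro a φ hφ ψ hψ
    rw [LinearMap.convMul_apply]
    induction Coalgebra.comul (R := k) a with
    | zero => simp
    | add p q hp hq => simp only [map_add, hp, hq]
    | tmul p q => simp [hbar, mul_comm]
  have hI : I.IsHopfIdeal k :=
    { counit_eq_zero := fun a ha => by
        have := ha 1 h1
        simpa [LinearMap.convOne_def] using this
      map_mkQ_comul_eq_zero := fun a ha => hsep2 _ fun φ hφ ψ hψ =>
        (hpair a φ hφ ψ hψ).trans (ha _ (hmul φ hφ ψ hψ).1)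
      antipode_mem := fun a ha => hS a ha }
  refine ⟨I, hI, ?_, fun a => Iff.rfl⟩
  refine ⟨LinearMap.ext fun x => ?_⟩
  obtain ⟨a, rfl⟩ := Ideal.Quotient.mk_surjective x
  show TensorProduct.comm k _ _ (Coalgebra.comul (R := k) (Ideal.Quotient.mk I a)) =
    Coalgebra.comul (R := k) (Ideal.Quotient.mk I a)
  let π : A →ₐc[k] A ⧸ I := Bialgebra.Quotient.mkBialgHom (R := k) I
  rw [show Coalgebra.comul (R := k) (Ideal.Quotient.mk I a) =
    TensorProduct.map π.toLinearMap π.toLinearMap (Coalgebra.comul (R := k) a) from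
      (CoalgHomClass.map_comp_comul_apply π a).symm]
  let σ : (A ⧸ I) →ₗ[k] Q := (Submodule.Quotient.restrictScalarsEquiv k I).symm.toLinearMap
  have hσ : Function.Injective σ := (Submodule.Quotient.restrictScalarsEquiv k I).symm.injective
  have hinj : Function.Injective (TensorProduct.map σ σ) := TensorProduct.map_injective_of_flat_flat _ _ hσ hσ
  apply hinj
  rw [← sub_eq_zero]
  refine hsep2 _ fun φ hφ ψ hψ => ?_
  have e : ∀ z : A ⊗[k] A,
      bar φ hφ (rcon (bar ψ hψ) (TensorProduct.map σ σ (TensorProduct.comm k _ _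
        (TensorProduct.map π.toLinearMap π.toLinearMap z)))) =
      bar ψ hψ (rcon (bar φ hφ) (TensorProduct.map (I.restrictScalars k).mkQ (I.restrictScalars k).mkQ z)) ∧
      bar φ hφ (rcon (bar ψ hψ) (TensorProduct.map σ σ (TensorProduct.map π.toLinearMap π.toLinearMap z))) =
      bar φ hφ (rcon (bar ψ hψ) (TensorProduct.map (I.restrictScalars k).mkQ (I.restrictScalars k).mkQ z)) := by
    intro z
    induction z with
    | zero => simp
    | add p q hp hq => simp only [map_add, hp.1, hq.1, hp.2, hq.2, and_self]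
    | tmul p q =>
      have hp : ∀ b : A, σ (π b) = Submodule.Quotient.mk b := fun b => by
        exact Submodule.Quotient.restrictScalarsEquiv_symm_mk k I b
      simp only [TensorProduct.map_tmul, TensorProduct.comm_tmul, rcon_tmul, map_smul, smul_eq_mul,
        Submodule.mkQ_apply]
      erw [hp, hp]
      exact ⟨mul_comm _ _, rfl⟩
  rw [map_sub, map_sub, (e _).1, (e _).2, hpair a ψ hψ φ hφ, hpair a φ hφ ψ hψ, (hmul φ hφ ψ hψ).2, sub_self]

/-- A commutative group which is not unipotent contains some `μ_n`. -/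
theorem exists_hom_mu [IsAlgClosed k] [Algebra.FiniteType k A] [Coalgebra.IsCocomm k A]
    (hA : ¬ HopfRep.IsUnipotent k A) :
    ∃ n : ℕ, n.Prime ∧ ∃ φ : A →ₐc[k] MonoidAlgebra k (Multiplicative (ZMod n)), Function.Surjective φ := by
  haveI := CommUnip.isHopfIdeal_multIdeal (k := k) (A := A)
  let C := A ⧸ CommUnip.multIdeal k A
  haveI : Algebra.FiniteType k C :=
    Algebra.FiniteType.of_surjective (Ideal.Quotient.mkₐ k _) Ideal.Quotient.mk_surjective
  obtain ⟨R', _, _, _, hD⟩ := CommUnip.isMultType_quot (k := k) (A := A)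
  obtain ⟨k', _, _, _, _, hD'⟩ := MultType.exists_separable_split (inferInstance : Algebra.FiniteType k C)
    (MultType.isMultType_of_ff R' hD)
  obtain ⟨X₀, _, -, ⟨e₀⟩⟩ := hD'
  obtain ⟨X, _, ⟨e₁⟩⟩ := MultType.isDiag_of_algHom (IsAlgClosed.lift : k' →ₐ[k] k) (A := C)
    ⟨X₀, inferInstance, ⟨e₀⟩⟩
  haveI hXfg : Group.FG X := MultType.fg_of_finiteType inferInstance e₁
  let ε : C ≃ₐc[k] MonoidAlgebra k X := (Bialgebra.TensorProduct.lid k C).symm.trans e₁
  let π : A →ₐc[k] C := Bialgebra.Quotient.mkBialgHom (R := k) _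
  haveI : Nontrivial X := by
    by_contra hX
    rw [not_nontrivial_iff_subsingleton] at hX
    refine hA (isUnipotent_iff_fil.2 fun a => ?_)
    have hc : ∀ c : C, c = algebraMap k C (Coalgebra.counit (R := k) c) := by
      intro c
      obtain ⟨r, hr⟩ : ∃ r : k, ε c = MonoidAlgebra.single 1 r := by
        induction ε c using MonoidAlgebra.induction_linear with
        | zero => exact ⟨0, by simp⟩
        | add p q hp hq =>
          obtain ⟨r, rfl⟩ := hp
          obtain ⟨s, rfl⟩ := hq
          exact ⟨r + s, by simp⟩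
        | single m r => exact ⟨r, by rw [Subsingleton.elim m 1]⟩
      have hr' : ε c = ε (algebraMap k C r) := by
        rw [hr, AlgHomClass.commutes ε r, MonoidAlgebra.coe_algebraMap]
        simp
      have hc' : c = algebraMap k C r := ε.injective hr'
      rw [hc', Bialgebra.counit_algebraMap]
    have hco : (Ideal.Quotient.mkₐ k (CommUnip.multIdeal k A)).toLinearMap.lTensor A (Coalgebra.comul (R := k) a) =
        a ⊗ₜ[k] (1 : C) := by
      refine ext_rcon fun f => ?_
      rw [rcon_lTensor, rcon_tmul]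
      have e : f ∘ₗ (Ideal.Quotient.mkₐ k (CommUnip.multIdeal k A)).toLinearMap = f 1 • Coalgebra.counit (R := k) := by
        refine LinearMap.ext fun b => ?_
        show f (π b) = _
        rw [hc (π b), CoalgHomClass.counit_comp_apply, Algebra.algebraMap_eq_smul_one, map_smul,
          LinearMap.smul_apply, smul_eq_mul, smul_eq_mul, mul_comm]
      rw [e]
      have h1 := (show (1 : WithConv (A →ₗ[k] k)) • a = a from one_smul _ a)
      rw [smul_def, dact, LinearMap.comp_apply, coact_regular, LinearMap.convOne_def] at h1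
      have h2 : ∀ z : A ⊗[k] A, rcon (f 1 • Coalgebra.counit (R := k)) z =
          f 1 • rcon (Coalgebra.counit (R := k)) z := by
        intro z
        induction z with
        | zero => simp
        | add p q hp hq => simp only [map_add, hp, hq, smul_add]
        | tmul p q => simp [smul_smul]
      rw [h2]
      congr 1
    have hJR : CommUnip.multIdeal k A ≤
        Ideal.span {b : A | b ∈ CommUnip.unitComp k A ∧ Coalgebra.counit (R := k) b = 0} := by
      letI := HopfPts.subHopfAlgebra (CommUnip.isHopfSub_unitComp (k := k) (A := A))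
      exact Ideal.map_le_iff_le_comap.mpr fun b hb => Ideal.subset_span ⟨b.2, hb⟩
    obtain ⟨n, hn⟩ := HopfFF.mem_of_right_coinv CommUnip.isHopfSub_unitComp hJR hco
    exact ⟨_, hn⟩
  haveI : Module.Finite ℤ (Additive X) := Module.Finite.iff_addGroup_fg.2 inferInstance
  obtain ⟨W, hW, -⟩ : ∃ W : Submodule ℤ (Additive X), IsCoatom W ∧ (⊥ : Submodule ℤ (Additive X)) ≤ W := by
    rcases (eq_top_or_exists_le_coatom (⊥ : Submodule ℤ (Additive X))) with h | h
    · exact absurd h bot_ne_top
    · exact h
  haveI : IsSimpleModule ℤ (Additive X ⧸ W) := isSimpleModule_iff_isCoatom.2 hW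
  obtain ⟨m, hm, ⟨em⟩⟩ := isSimpleModule_iff_quot_maximal.1 (inferInstance : IsSimpleModule ℤ (Additive X ⧸ W))
  obtain ⟨z, hz⟩ := IsPrincipalIdealRing.principal m
  have hz0 : z ≠ 0 := fun h0 => by
    refine Int.not_isField (Ring.isField_iff_maximal_bot.2 ?_)
    rwa [show (⊥ : Ideal ℤ) = m from by rw [hz, h0]; simp]
  have hprime : z.natAbs.Prime := by
    have h := hm.isPrime
    rw [hz] at h
    exact Int.prime_iff_natAbs_prime.1 ((Ideal.span_singleton_prime hz0).1 h)
  let n := z.natAbs
  have hm' : m = Ideal.span {(n : ℤ)} := by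
    rw [hz]
    exact Ideal.span_singleton_eq_span_singleton.2 (Int.associated_natAbs z)
  let eq : Additive X ⧸ W ≃+ ZMod n :=
    (em.toAddEquiv.trans (Ideal.quotEquivOfEq hm').toAddEquiv).trans (Int.quotientSpanNatEquivZMod n).toAddEquiv
  let ζ : X →* Multiplicative (ZMod n) :=
    AddMonoidHom.toMultiplicativeRight (eq.toAddMonoidHom.comp W.mkQ.toAddMonoidHom)
  have hζ : Function.Surjective ζ := fun y => by
    obtain ⟨w, hw⟩ := (eq.surjective.comp W.mkQ_surjective) (Multiplicative.toAdd y)
    exact ⟨Additive.toMul w, congrArg Multiplicative.ofAdd hw⟩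
  refine ⟨n, hprime, (MonoidAlgebra.mapDomainBialgHom k ζ).comp ((ε : C →ₐc[k] MonoidAlgebra k X).comp π),
    (?_ : Function.Surjective (MonoidAlgebra.mapDomainBialgHom k ζ)).comp
      ((EquivLike.surjective ε).comp Ideal.Quotient.mk_surjective)⟩
  intro y
  induction y using MonoidAlgebra.induction_linear with
  | zero => exact ⟨0, map_zero _⟩
  | add p q hp hq =>
    obtain ⟨p, rfl⟩ := hp
    obtain ⟨q, rfl⟩ := hq
    exact ⟨p + q, map_add _ p q⟩
  | single m r =>
    obtain ⟨x, rfl⟩ := hζ m
    exact ⟨MonoidAlgebra.single x r, by simp⟩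

theorem toLin_mul (g h : WithConv (A →ₐ[k] k)) :
    toConv (g * h).ofConv.toLinearMap = toConv g.ofConv.toLinearMap * toConv h.ofConv.toLinearMap := by
  refine WithConv.ext (LinearMap.ext fun a => ?_)
  simp only [AlgHom.toLinearMap_apply, AlgHom.convMul_apply, LinearMap.convMul_apply, WithConv.ofConv_toConv]
  induction Coalgebra.comul (R := k) a with
  | zero => simp
  | add p q hp hq => simp only [map_add, hp, hq]
  | tmul p q => simp

theorem pow_comp_proj {B : Type u} [CommRing B] [HopfAlgebra k B] (π : A →ₐc[k] B) (f : WithConv (B →ₗ[k] k)) :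
    ∀ n : ℕ, toConv ((f ^ n).ofConv ∘ₗ π.toLinearMap) = (toConv (f.ofConv ∘ₗ π.toLinearMap)) ^ n := by
  intro n
  induction n with
  | zero =>
    rw [pow_zero, pow_zero]
    refine WithConv.ext (LinearMap.ext fun a => ?_)
    simp [LinearMap.convOne_def]
  | succ n ih =>
    rw [pow_succ, pow_succ, ← ih]
    apply WithConv.ofConv_injective
    exact LinearMap.convMul_comp_coalgHom_distrib (f ^ n) f (π : A →ₗc[k] B)

/-- An algebraic group over an algebraically closed field which is reduced and contains no `μ_n` is unipotent. -/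
theorem isUnipotent_of_reduced [IsAlgClosed k] [Algebra.FiniteType k A] [IsReduced A]
    (hμ : ∀ n : ℕ, n.Prime → ¬ ∃ φ : A →ₐc[k] MonoidAlgebra k (Multiplicative (ZMod n)), Function.Surjective φ) :
    HopfRep.IsUnipotent k A := by
  intro V _ _ _ hfin hnt
  refine UnipH7.fixedPts_ne_bot_of_points fun g₀ => ?_
  let g : WithConv (A →ₐ[k] k) := toConv g₀
  let h : WithConv (A →ₐ[k] k) := toConv (g₀.comp (HopfAlgebra.antipodeAlgHom k A))
  let lin : WithConv (A →ₐ[k] k) → WithConv (A →ₗ[k] k) := fun x => toConv x.ofConv.toLinearMap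
  have hgh : g * h = 1 ∧ h * g = 1 := by
    constructor
    · refine WithConv.ext (AlgHom.ext fun a => ?_)
      have h1 := congrArg g₀ (HopfAlgebra.mul_antipode_lTensor_comul_apply (R := k) a)
      rw [AlgHomClass.commutes] at h1
      rw [AlgHom.convMul_apply, AlgHom.convOne_apply, ← h1]
      induction Coalgebra.comul (R := k) a with
      | zero => simp
      | add p q hp hq => simp only [map_add, hp, hq]
      | tmul p q => simp [g, h]
    · refine WithConv.ext (AlgHom.ext fun a => ?_)
      have h1 := congrArg g₀ (HopfAlgebra.mul_antipode_rTensor_comul_apply (R := k) a)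
      rw [AlgHomClass.commutes] at h1
      rw [AlgHom.convMul_apply, AlgHom.convOne_apply, ← h1]
      induction Coalgebra.comul (R := k) a with
      | zero => simp
      | add p q hp hq => simp only [map_add, hp, hq]
      | tmul p q => simp [g, h]
  have hc : Commute g h := hgh.1.trans hgh.2.symm
  let Γ : Set (WithConv (A →ₐ[k] k)) := {x | ∃ i j : ℕ, x = g ^ i * h ^ j}
  have hΓm : ∀ i j l m : ℕ, (g ^ i * h ^ j) * (g ^ l * h ^ m) = g ^ (i + l) * h ^ (j + m) := fun i j l m => by
    rw [pow_add, pow_add, mul_assoc, ← mul_assoc (h ^ j), ← (hc.pow_pow l j).eq, mul_assoc, mul_assoc]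
  have hinv : ∀ i j : ℕ, (g ^ i * h ^ j) * (g ^ j * h ^ i) = 1 := fun i j => by
    rw [hΓm, add_comm j i, ← hc.mul_pow, hgh.1, one_pow]
  have hlinS : ∀ i j : ℕ, ∀ a, (g ^ i * h ^ j).ofConv (HopfAlgebra.antipode k a) = (g ^ j * h ^ i).ofConv a := by
    intro i j a
    set x := g ^ i * h ^ j
    have hx : toConv (x.ofConv.comp (HopfAlgebra.antipodeAlgHom k A)) * x = 1 := by
      refine WithConv.ext (AlgHom.ext fun a => ?_)
      have h1 := congrArg x.ofConv (HopfAlgebra.mul_antipode_rTensor_comul_apply (R := k) a)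
      rw [AlgHomClass.commutes] at h1
      rw [AlgHom.convMul_apply, AlgHom.convOne_apply, ← h1]
      induction Coalgebra.comul (R := k) a with
      | zero => simp
      | add p q hp hq => simp only [map_add, hp, hq]
      | tmul p q => simp
    exact congrArg (fun z => z.ofConv a) (left_inv_eq_right_inv hx (hinv i j))
  obtain ⟨I, _, _, hIa⟩ := exists_comm_quot (Φ := lin '' Γ) ⟨1, ⟨0, 0, by simp⟩, WithConv.ext (LinearMap.ext fun a => by
      simp [lin, AlgHom.convOne_def, LinearMap.convOne_def])⟩ (by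
      rintro _ ⟨_, ⟨i, j, rfl⟩, rfl⟩ _ ⟨_, ⟨l, m, rfl⟩, rfl⟩
      refine ⟨⟨_, ⟨i + l, j + m, rfl⟩, ?_⟩, ?_⟩
      · rw [← hΓm]; exact toLin_mul _ _
      · simp only [lin, ← toLin_mul, hΓm, add_comm i l, add_comm j m]) (by
      rintro x a ha _ ⟨y, hy, rfl⟩
      show y.ofConv (x * a) = 0
      rw [map_mul, show y.ofConv a = 0 from ha _ ⟨y, hy, rfl⟩, mul_zero]) (by
      rintro a ha _ ⟨_, ⟨i, j, rfl⟩, rfl⟩
      exact (hlinS i j a).trans (ha _ ⟨_, ⟨j, i, rfl⟩, rfl⟩))
  haveI : Algebra.FiniteType k (A ⧸ I) :=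
    Algebra.FiniteType.of_surjective (Ideal.Quotient.mkₐ k _) Ideal.Quotient.mk_surjective
  let π : A →ₐc[k] A ⧸ I := Bialgebra.Quotient.mkBialgHom (R := k) I
  have hU : HopfRep.IsUnipotent k (A ⧸ I) := by
    by_contra hU
    obtain ⟨n, hn, φ, hφ⟩ := exists_hom_mu hU
    exact hμ n hn ⟨φ.comp π, hφ.comp Ideal.Quotient.mk_surjective⟩
  let g' : (A ⧸ I) →ₐ[k] k := Ideal.Quotient.liftₐ I g₀ fun a ha => by
    have h1 := (hIa a).1 ha (lin (g ^ 1 * h ^ 0)) ⟨_, ⟨1, 0, rfl⟩, rfl⟩
    rw [pow_one, pow_zero, _root_.mul_one] at h1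
    exact h1
  let x' : WithConv (A ⧸ I →ₗ[k] k) := toConv g'.toLinearMap - 1
  let x : WithConv (A →ₗ[k] k) := toConv g₀.toLinearMap - 1
  have hx' : x'.ofConv 1 = 0 := by simp [x', LinearMap.convOne_def]
  have hxx : ∀ n : ℕ, toConv ((x' ^ n).ofConv ∘ₗ π.toLinearMap) = x ^ n := fun n => by
    rw [pow_comp_proj π x' n]
    congr 1
  have hfil := isUnipotent_iff_fil.1 hU
  let b := Module.finBasis k V
  choose N hN using fun i j : Fin (Module.finrank k V) => hfil (π (coefMap (C := A) (b.coord i) (b j)))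
  refine ⟨Finset.univ.sup fun i => Finset.univ.sup (N i), ?_⟩
  set M := Finset.univ.sup fun i => Finset.univ.sup (N i)
  have hact : (HopfRep.Comod.act k A V g₀ - 1) = DistribMulAction.toLinearMap k V x := by
    refine LinearMap.ext fun v => ?_
    show _ = x • v
    simp only [x, sub_smul, one_smul]
    rfl
  have hpow : ∀ (n : ℕ) (v : V), ((HopfRep.Comod.act k A V g₀ - 1) ^ n) v = x ^ n • v := by
    intro n
    induction n with
    | zero => intro v; simp
    | succ n ih =>
      intro v
      rw [pow_succ, Module.End.mul_apply, ih, hact, pow_succ, mul_smul]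
      rfl
  refine b.ext fun j => ?_
  rw [hpow, LinearMap.zero_apply]
  refine b.ext_elem fun i => ?_
  rw [map_zero, Finsupp.zero_apply]
  show b.coord i (x ^ M • b j) = 0
  have e : ∀ (f : WithConv (A →ₗ[k] k)) (v : V), b.coord i (f • v) = f.ofConv (coefMap (C := A) (b.coord i) v) := by
    intro f v
    rw [smul_def, dact, LinearMap.comp_apply, coefMap_apply]
    induction HopfRep.Comod.coact (k := k) (A := A) v with
    | zero => simp
    | add p q hp hq => simp only [map_add, hp, hq]
    | tmul p q => simp [mul_comm]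
  rw [e, ← hxx]
  refine Van.pow (van_one_iff.2 hx') M _ ?_
  exact fil_mono ((Finset.le_sup (f := N i) (Finset.mem_univ j)).trans
    (Finset.le_sup (f := fun i => Finset.univ.sup (N i)) (Finset.mem_univ i))) (hN i j)

/-- Without `μ_n`, every tangent vector at the origin is nilpotent. -/
theorem isNilpotent_der [IsAlgClosed k] [Algebra.FiniteType k A] (p : ℕ) [Fact p.Prime] [CharP k p]
    {D : WithConv (A →ₗ[k] k)} (hD : IsDer D)
    (hμ : ∀ n : ℕ, n.Prime → ¬ ∃ φ : A →ₐc[k] MonoidAlgebra k (Multiplicative (ZMod n)), Function.Surjective φ) :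
    IsNilpotent D := by
  have hDS : ∀ a : A, D.ofConv (HopfAlgebra.antipode k a) = - D.ofConv a := by
    intro a
    have h1 := congrArg D.ofConv (HopfAlgebra.mul_antipode_rTensor_comul_apply (R := k) a)
    rw [Algebra.algebraMap_eq_smul_one, map_smul, hD.one, smul_zero] at h1
    rw [eq_neg_iff_add_eq_zero]
    have h2 : D.ofConv (HopfAlgebra.antipode k a) + D.ofConv a =
        D.ofConv (HopfAlgebra.antipode k (rcon (Coalgebra.counit (R := k)) (Coalgebra.comul (R := k) a))) +
        D.ofConv (lcon (C := A) (Coalgebra.counit (R := k)) (Coalgebra.comul (R := k) a)) := by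
      rw [show lcon (C := A) (Coalgebra.counit (R := k)) (Coalgebra.comul (R := k) a) = a from lcon_counit_comul a]
      have hz : (1 : WithConv (A →ₗ[k] k)) • a = a := one_smul _ a
      rw [smul_def, dact, LinearMap.comp_apply, coact_regular, LinearMap.convOne_def] at hz
      congr 3
      refine hz.symm.trans ?_
      congr 1
    rw [h2, ← h1]
    clear h1 h2
    induction Coalgebra.comul (R := k) a with
    | zero => simp
    | add p q hp hq => simp only [map_add] at hp hq ⊢; rw [← hp, ← hq]; ring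
    | tmul p q =>
      simp [hD (HopfAlgebra.antipode k p) q, HopfAlgebra.counit_antipode]
      ring
  have hpowS : ∀ (n : ℕ) (a : A), (D ^ n).ofConv (HopfAlgebra.antipode k a) = (-1) ^ n * (D ^ n).ofConv a := by
    intro n
    induction n with
    | zero => intro a; simp [LinearMap.convOne_def, HopfAlgebra.counit_antipode]
    | succ n ih =>
      intro a
      have hsw : D • HopfAlgebra.antipode k a =
          - HopfAlgebra.antipode k (lcon D.ofConv (Coalgebra.comul (R := k) a)) := by
        rw [smul_def, dact, LinearMap.comp_apply, coact_regular, comul_antipode]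
        induction Coalgebra.comul (R := k) a with
        | zero => simp
        | add p q hp hq => simp only [map_add, hp, hq, neg_add]
        | tmul p q => simp [hDS, map_smul]
      conv_lhs => rw [pow_succ, ← conv_apply_smul, hsw, map_neg, ih, conv_apply_lcon, ← pow_succ']
      ring
  obtain ⟨I, _, _, hIa⟩ := exists_comm_quot (Φ := Set.range fun n : ℕ => D ^ n) ⟨0, pow_zero D⟩ (by
      rintro _ ⟨i, rfl⟩ _ ⟨j, rfl⟩
      exact ⟨⟨i + j, pow_add D i j⟩, (Commute.refl D).pow_pow i j⟩) (by
      rintro x a ha _ ⟨n, rfl⟩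
      simp only [Set.forall_mem_range] at ha
      induction n generalizing x a with
      | zero =>
        have h0 := ha 0
        simp only [pow_zero, LinearMap.convOne_def] at h0 ⊢
        simp at h0
        simp [h0]
      | succ n ih =>
        show (D ^ (n + 1)).ofConv (x * a) = 0
        rw [pow_succ, ← conv_apply_smul, hD.leibniz, map_add, ih x (D • a) (fun m => by
          show (D ^ m).ofConv (D • a) = 0
          rw [conv_apply_smul, ← pow_succ]
          exact ha (m + 1)), ih (D • x) a ha, add_zero]) (by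
      rintro a ha _ ⟨n, rfl⟩
      show (D ^ n).ofConv (HopfAlgebra.antipode k a) = 0
      rw [hpowS, ha _ ⟨n, rfl⟩, mul_zero])
  haveI : Algebra.FiniteType k (A ⧸ I) :=
    Algebra.FiniteType.of_surjective (Ideal.Quotient.mkₐ k _) Ideal.Quotient.mk_surjective
  let π : A →ₐc[k] A ⧸ I := Bialgebra.Quotient.mkBialgHom (R := k) I
  have hU : HopfRep.IsUnipotent k (A ⧸ I) := by
    by_contra hU
    obtain ⟨n, hn, φ, hφ⟩ := exists_hom_mu hU
    exact hμ n hn ⟨φ.comp π, hφ.comp Ideal.Quotient.mk_surjective⟩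
  let D' : WithConv (A ⧸ I →ₗ[k] k) := toConv (((I.restrictScalars k).liftQ D.ofConv fun a ha => by
    have := (hIa a).1 ha (D ^ 1) ⟨1, rfl⟩
    rwa [pow_one] at this) ∘ₗ (Submodule.Quotient.restrictScalarsEquiv k I).symm.toLinearMap)
  have hDD : ∀ a, D'.ofConv (π a) = D.ofConv a := fun a => by
    simp [D', π, ← Ideal.Quotient.mk_eq_mk]
  have hD' : IsDer D' := fun y z => by
    obtain ⟨a, rfl⟩ := Ideal.Quotient.mk_surjective y
    obtain ⟨b, rfl⟩ := Ideal.Quotient.mk_surjective z
    show D'.ofConv (π a * π b) = Coalgebra.counit (R := k) (π a) * D'.ofConv (π b) +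
      D'.ofConv (π a) * Coalgebra.counit (R := k) (π b)
    rw [← map_mul, hDD, hDD, hDD, CoalgHomClass.counit_comp_apply, CoalgHomClass.counit_comp_apply]
    exact hD a b
  obtain ⟨S, hS⟩ := (Algebra.FiniteType.out : (⊤ : Subalgebra k (A ⧸ I)).FG)
  choose N hN using isUnipotent_iff_fil.1 hU
  let n := S.sup N + 1
  have hle : S.sup N ≤ p ^ n := ((Nat.le_succ _).trans (Nat.lt_pow_self (Fact.out : p.Prime).one_lt).le)
  have hd : IsDer (D' ^ p ^ n) := fun a b => S2968.der_pow (p := p) D' hD' n a b
  refine ⟨p ^ n, ?_⟩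
  have hDπ : toConv (D'.ofConv ∘ₗ π.toLinearMap) = D := WithConv.ext (LinearMap.ext hDD)
  rw [← hDπ, ← pow_comp_proj π D']
  refine WithConv.ext (LinearMap.ext fun a => ?_)
  show (D' ^ p ^ n).ofConv (π a) = 0
  have ha : π a ∈ Algebra.adjoin k (S : Set (A ⧸ I)) := by rw [hS]; exact Algebra.mem_top
  revert ha
  generalize π a = y
  intro ha
  induction ha using Algebra.adjoin_induction with
  | mem x hx => exact (Van.pow (van_one_iff.2 hD'.one) (p ^ n)).mono ((Finset.le_sup hx).trans hle) x (hN x)
  | algebraMap r => rw [Algebra.algebraMap_eq_smul_one, map_smul, hd.one, smul_zero]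
  | add x y _ _ hx hy => rw [map_add, hx, hy, add_zero]
  | mul x y _ _ hx hy => rw [hd x y, hx, hy, mul_zero, zero_mul, add_zero]

end Groth.Agent.UnipMu
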