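import Groth.Agent.UnipMuLib.Infinitesimal
import Groth.Agent.CommUnipLib.Fil
import Groth.Agent.HopfGr.Cartier

/-!
Unipotence from the reduced subgroup and the tangent space, by Frobenius induction.
-/

set_option autoImplicit false
set_option backward.isDefEq.respectTransparency false
set_option linter.unusedSectionVars false
set_option linter.style.haveILetI false
set_option maxHeartbeats 800000
universe u v

open TensorProduct WithConv

noncomputable section

namespace Groth.Agent.UnipMu

open Groth.Agent.Comodule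

section HopfIdeal

variable {k : Type u} [Field k] {A : Type v} [CommRing A] [HopfAlgebra k A]

/-- An ideal generated by the augmentation ideal of a bialgebra is a Hopf ideal. -/
theorem isHopfIdeal_map {B : Type v} [CommRing B] [HopfAlgebra k B] (ψ : B →ₐc[k] A) :
    (Ideal.map (ψ : B →+* A) (RingHom.ker (Bialgebra.counitAlgHom k B))).IsHopfIdeal k := by
  set J := Ideal.map (ψ : B →+* A) (RingHom.ker (Bialgebra.counitAlgHom k B)) with hJ
  let π := Ideal.Quotient.mkₐ k J
  have hπ : ∀ b : B, π (ψ b) = algebraMap k (A ⧸ J) (Coalgebra.counit (R := k) b) := fun b => by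
    rw [← sub_eq_zero, ← AlgHom.commutes π, ← map_sub, ← AlgHomClass.commutes ψ, ← map_sub]
    exact Ideal.Quotient.eq_zero_iff_mem.mpr (Ideal.mem_map_of_mem _ (by simp [RingHom.mem_ker]))
  let Φ : A →ₐ[k] (A ⧸ J) ⊗[k] (A ⧸ J) := (Algebra.TensorProduct.map π π).comp (Bialgebra.comulAlgHom k A)
  have hΦ : J ≤ RingHom.ker Φ := by
    refine Ideal.map_le_iff_le_comap.mpr fun b hb => RingHom.mem_ker.mpr ?_
    show Algebra.TensorProduct.map π π (Coalgebra.comul (R := k) (ψ b)) = 0
    rw [← CoalgHomClass.map_comp_comul_apply ψ b]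
    have e : ∀ z : B ⊗[k] B, Algebra.TensorProduct.map π π (TensorProduct.map (ψ : B →ₗ[k] A) (ψ : B →ₗ[k] A) z) =
        algebraMap k _ (LinearMap.mul' k k (TensorProduct.map (Coalgebra.counit (R := k)) (Coalgebra.counit (R := k)) z)) := by
      intro z
      induction z with
      | zero => simp
      | add p q hp hq => simp only [map_add, hp, hq]
      | tmul p q =>
        rw [TensorProduct.map_tmul, TensorProduct.map_tmul, Algebra.TensorProduct.map_tmul, LinearMap.mul'_apply]
        show π (ψ p) ⊗ₜ[k] π (ψ q) = _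
        rw [hπ, hπ, map_mul, Algebra.TensorProduct.algebraMap_apply,
          Algebra.TensorProduct.algebraMap_apply', Algebra.TensorProduct.tmul_mul_tmul, one_mul, mul_one]
    refine (e _).trans ?_
    have h2 : LinearMap.mul' k k (TensorProduct.map (Coalgebra.counit (R := k)) (Coalgebra.counit (R := k))
        (Coalgebra.comul (R := k) b)) = Coalgebra.counit (R := k) b := by
      have h := congrArg ((LinearMap.mul' k k) ∘ₗ (Coalgebra.counit (R := k) (A := B)).lTensor k)
        (Coalgebra.rTensor_counit_comul (R := k) b)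
      rw [LinearMap.comp_apply, LinearMap.comp_apply, ← LinearMap.comp_apply (LinearMap.lTensor k _),
        LinearMap.lTensor_comp_rTensor] at h
      rw [LinearMap.lTensor_tmul, LinearMap.mul'_apply, one_mul] at h
      exact h
    rw [h2, show Coalgebra.counit (R := k) b = 0 from hb, map_zero]
  have hS : J ≤ J.comap (HopfAlgebra.antipodeAlgHom k A) := by
    refine Ideal.map_le_iff_le_comap.mpr fun b hb => ?_
    show HopfAlgebra.antipodeAlgHom k A (ψ b) ∈ J
    rw [HopfAlgebra.antipodeAlgHom_apply, ← HopfFF.map_antipode' ψ b]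
    exact Ideal.mem_map_of_mem _ (by
      rw [RingHom.mem_ker] at hb ⊢
      show Coalgebra.counit (R := k) (HopfAlgebra.antipode k b) = 0
      rw [HopfAlgebra.counit_antipode]
      exact hb)
  have hco : (J.restrictScalars k).IsCoideal := by
    refine ⟨fun a ha => ?_, fun a ha => ?_⟩
    · have h : J ≤ RingHom.ker (Bialgebra.counitAlgHom k A) :=
        Ideal.map_le_iff_le_comap.mpr fun b hb => by
          rw [Ideal.mem_comap, RingHom.mem_ker]
          exact (CoalgHomClass.counit_comp_apply ψ b).trans hb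
      exact h ha
    · let σ : (A ⧸ J) →ₗ[k] A ⧸ J.restrictScalars k := (Submodule.Quotient.restrictScalarsEquiv k J).symm.toLinearMap
      have e : ∀ z : A ⊗[k] A, TensorProduct.map (J.restrictScalars k).mkQ (J.restrictScalars k).mkQ z =
          TensorProduct.map σ σ (Algebra.TensorProduct.map π π z) := by
        intro z
        induction z with
        | zero => simp
        | add p q hp hq => simp only [map_add, hp, hq]
        | tmul p q => simp [σ, π, ← Ideal.Quotient.mk_eq_mk]
      rw [e]
      have h0 := hΦ ha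
      rw [RingHom.mem_ker, AlgHom.comp_apply, Bialgebra.comulAlgHom_apply] at h0
      rw [h0, map_zero]
  exact { hco with antipode_mem := fun a ha => hS ha }

end HopfIdeal

variable {k : Type u} [Field k] (p : ℕ)

theorem charP_alg [CharP k p] (B : Type u) [CommRing B] [Algebra k B] [Nontrivial B] : CharP B p :=
  charP_of_injective_algebraMap (algebraMap k B).injective p

theorem nontrivial_hopf (B : Type u) [CommRing B] [HopfAlgebra k B] : Nontrivial B :=
  (Bialgebra.counitAlgHom k B).toRingHom.domain_nontrivial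

theorem nontrivial_tensor (B : Type u) [CommRing B] [HopfAlgebra k B] : Nontrivial (B ⊗[k] B) :=
  ((Algebra.TensorProduct.lmul' k (S := k)).comp
    (Algebra.TensorProduct.map (Bialgebra.counitAlgHom k B) (Bialgebra.counitAlgHom k B))).toRingHom.domain_nontrivial

/-- A group all of whose reduced subgroups are unipotent and all of whose tangent vectors are nilpotent
is unipotent. -/
theorem isUnipotent_of_reduced_quot_and_der [hp : Fact p.Prime] [CharP k p] [PerfectField k] (A₀ : Type u) [CommRing A₀] [HopfAlgebra k A₀]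
    [Algebra.FiniteType k A₀]
    (hR : ∀ (B : Type u) [CommRing B] [HopfAlgebra k B] [Algebra.FiniteType k B] [IsReduced B] (φ : A₀ →ₐc[k] B),
      Function.Surjective φ → HopfRep.IsUnipotent k B)
    (hL : ∀ f : WithConv (A₀ →ₗ[k] k), IsDer f → IsNilpotent f) : HopfRep.IsUnipotent k A₀ := by
  classical
  haveI : IsNoetherianRing A₀ := Algebra.FiniteType.isNoetherianRing k A₀
  suffices main : ∀ (I : Ideal A₀) (B : Type u) [CommRing B] [HopfAlgebra k B] (φ : A₀ →ₐc[k] B),
      Function.Surjective φ → RingHom.ker (φ : A₀ →ₐ[k] B) = I → HopfRep.IsUnipotent k B from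
    main _ A₀ (BialgHom.id k A₀) Function.surjective_id rfl
  intro I
  induction I using WellFoundedGT.induction with
  | ind I IH =>
  intro B _ _ φ hφ hI
  haveI : Algebra.FiniteType k B := Algebra.FiniteType.of_surjective (φ : A₀ →ₐ[k] B) hφ
  by_cases hred : IsReduced B
  · exact hR B φ hφ
  haveI := nontrivial_hopf (k := k) B
  haveI := nontrivial_tensor (k := k) B
  haveI := charP_alg (k := k) p B
  haveI := charP_alg (k := k) p (B ⊗[k] B)
  haveI : ExpChar k p := ExpChar.prime hp.out
  haveI : ExpChar B p := ExpChar.prime hp.out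
  haveI : ExpChar (B ⊗[k] B) p := ExpChar.prime hp.out
  haveI : PerfectRing k p := PerfectField.toPerfectRing p
  let σ : k ≃+* k := frobeniusEquiv k p
  have hσ : ∀ c : k, σ c = c ^ p := fun c => frobeniusEquiv_apply k p c
  have hσ' : ∀ c : k, (σ.symm c) ^ p = c := fun c => by rw [← hσ, σ.apply_symm_apply]
  let K : Ideal B := RingHom.ker (frobenius B p)
  have hK : ∀ {b : B}, b ∈ K ↔ b ^ p = 0 := fun {b} => by simp [K, frobenius_def]
  -- the image of Frobenius
  let C : Subalgebra k B :=
    { (frobenius B p).range.toSubsemiring with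
      algebraMap_mem' := fun c => ⟨algebraMap k B (σ.symm c), by rw [frobenius_def, ← map_pow, hσ']⟩ }
  have hC : ∀ {x : B}, x ∈ C ↔ ∃ b, b ^ p = x := fun {x} => Iff.rfl
  have hcomul : ∀ b : B, Coalgebra.comul (R := k) (b ^ p) = Coalgebra.comul (R := k) b ^ p := fun b =>
    map_pow (Bialgebra.comulAlgHom k B) b p
  have hCsub : HopfFF.IsHopfSub (k := k) (A := B) C := by
    constructor
    · rintro x hx
      obtain ⟨b, rfl⟩ := hC.1 hx
      rw [hcomul]
      induction Coalgebra.comul (R := k) b with
      | zero => rw [zero_pow hp.out.ne_zero]; exact zero_mem _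
      | add y z hy hz => rw [add_pow_char y z]; exact add_mem hy hz
      | tmul y z =>
        exact ⟨(⟨y ^ p, hC.2 ⟨y, rfl⟩⟩ : C) ⊗ₜ[k] (⟨z ^ p, hC.2 ⟨z, rfl⟩⟩ : C), by
          rw [TensorProduct.map_tmul, Algebra.TensorProduct.tmul_pow]; rfl⟩
    · rintro x hx
      obtain ⟨b, rfl⟩ := hC.1 hx
      exact hC.2 ⟨HopfAlgebra.antipode k b, (map_pow (HopfAlgebra.antipodeAlgHom k B) b p).symm⟩
  -- functionals seen through Frobenius
  have hdown : ∀ f : B →ₗ[k] k, ∃ g : B →ₗ[k] k, (∀ b, g b ^ p = f (b ^ p)) ∧ ∀ b ∈ K, g b = 0 := fun f =>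
    ⟨{ toFun := fun b => σ.symm (f (b ^ p))
       map_add' := fun a b => by rw [add_pow_char a b, map_add, map_add]
       map_smul' := fun c b => by
        rw [smul_pow, map_smul, smul_eq_mul, map_mul, RingHom.id_apply, smul_eq_mul, ← hσ, σ.symm_apply_apply] },
      fun b => hσ' _, fun b hb => by
        show σ.symm (f (b ^ p)) = 0
        rw [hK.1 hb, map_zero, map_zero]⟩
  have hup : ∀ g : B →ₗ[k] k, (∀ b ∈ K, g b = 0) → ∃ f : B →ₗ[k] k, ∀ b, f (b ^ p) = g b ^ p := by
    intro g hg
    have key : ∀ (x : C) b₁ b₂, b₁ ^ p = (x : B) → b₂ ^ p = (x : B) → g b₁ = g b₂ := by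
      intro x b₁ b₂ h₁ h₂
      refine sub_eq_zero.1 ((map_sub g b₁ b₂).symm.trans (hg _ (hK.2 ?_)))
      rw [sub_pow_char b₁ b₂, h₁, h₂, sub_self]
    choose rt hrt using fun x : C => hC.1 x.2
    let g' : C →ₗ[k] k :=
      { toFun := fun x => g (rt x) ^ p
        map_add' := fun x y => by
          rw [← add_pow_char, ← map_add]
          exact congrArg (· ^ p) (key (x + y) _ _ (hrt _) (by
            rw [add_pow_char, hrt, hrt]; rfl))
        map_smul' := fun c x => by
          rw [RingHom.id_apply, smul_eq_mul]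
          conv_rhs => rw [← hσ' c, ← mul_pow, ← smul_eq_mul, ← map_smul]
          exact congrArg (· ^ p) (key (c • x) _ _ (hrt _) (by
            rw [smul_pow, hσ', hrt]; rfl)) }
    obtain ⟨f, hf⟩ := LinearMap.exists_extend (p := Subalgebra.toSubmodule C) g'
    refine ⟨f, fun b => ?_⟩
    have h := LinearMap.congr_fun hf (⟨b ^ p, hC.2 ⟨b, rfl⟩⟩ : C)
    refine h.trans (congrArg (· ^ p) (key ⟨b ^ p, hC.2 ⟨b, rfl⟩⟩ _ _ (hrt _) rfl))
  have hrcon : ∀ (f g : B →ₗ[k] k), (∀ b, g b ^ p = f (b ^ p)) → ∀ z : B ⊗[k] B,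
      rcon f (z ^ p) = rcon g z ^ p ∧ lcon f (z ^ p) = lcon g z ^ p := by
    intro f g hfg z
    induction z with
    | zero => rw [zero_pow hp.out.ne_zero]; simp [zero_pow hp.out.ne_zero]
    | add y z hy hz =>
      rw [add_pow_char y z]
      simp only [map_add]
      rw [hy.1, hy.2, hz.1, hz.2, add_pow_char, add_pow_char]
      exact ⟨rfl, rfl⟩
    | tmul y z =>
      rw [Algebra.TensorProduct.tmul_pow, rcon_tmul, lcon_tmul, rcon_tmul, lcon_tmul, ← hfg, ← hfg, smul_pow,
        smul_pow]
      exact ⟨rfl, rfl⟩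
  -- the kernel of Frobenius is a Hopf ideal
  haveI hKH : K.IsHopfIdeal k :=
    { counit_eq_zero := fun a ha => by
        have h1 : Coalgebra.counit (R := k) a ^ p = 0 := by
          rw [← Bialgebra.counit_pow, hK.1 ha, map_zero]
        exact pow_eq_zero_iff hp.out.ne_zero |>.1 h1
      map_mkQ_comul_eq_zero := fun a ha => by
        refine ext_lcon fun θ => ?_
        rw [map_zero]
        let g : B →ₗ[k] k := θ ∘ₗ (K.restrictScalars k).mkQ
        obtain ⟨f, hf⟩ := hup g fun b hb => by
          show θ ((K.restrictScalars k).mkQ b) = 0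
          exact (congrArg θ ((Submodule.Quotient.mk_eq_zero (K.restrictScalars k)).2 hb)).trans (map_zero θ)
        have e : ∀ z : B ⊗[k] B, lcon θ (TensorProduct.map (K.restrictScalars k).mkQ (K.restrictScalars k).mkQ z) =
            (K.restrictScalars k).mkQ (lcon g z) := by
          intro z
          induction z with
          | zero => simp
          | add y z hy hz => simp only [map_add, hy, hz]
          | tmul y z => simp [g]
        rw [e, Submodule.mkQ_apply, Submodule.Quotient.mk_eq_zero]
        refine hK.2 ?_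
        rw [← (hrcon f g (fun b => (hf b).symm) _).2, ← hcomul, hK.1 ha, map_zero, map_zero]
      antipode_mem := fun a ha => hK.2 (by
        rw [show HopfAlgebra.antipode k a ^ p = HopfAlgebra.antipode k (a ^ p) from
          (map_pow (HopfAlgebra.antipodeAlgHom k B) a p).symm, hK.1 ha, map_zero]) }
  let π : B →ₐc[k] B ⧸ K := Bialgebra.Quotient.mkBialgHom (R := k) K
  -- the smaller group is unipotent
  have hBK : HopfRep.IsUnipotent k (B ⧸ K) := by
    obtain ⟨x, hxn, hx0⟩ : ∃ x : B, IsNilpotent x ∧ x ≠ 0 := by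
      by_contra hcon
      push Not at hcon
      exact hred ⟨fun x hx => hcon x hx⟩
    obtain ⟨y, hy, hy0⟩ : ∃ y : B, y ^ p = 0 ∧ y ≠ 0 := by
      obtain ⟨n, hn⟩ := hxn
      have hn' : x ^ p ^ n = 0 := pow_eq_zero_of_le (Nat.lt_pow_self hp.out.one_lt).le hn
      clear hn
      induction n with
      | zero => rw [pow_zero, pow_one] at hn'; exact absurd hn' hx0
      | succ n ih =>
        by_cases h : x ^ p ^ n = 0
        · exact ih h
        · exact ⟨x ^ p ^ n, by rw [← pow_mul, ← pow_succ]; exact hn', h⟩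
    obtain ⟨a, ha⟩ := hφ y
    refine IH (RingHom.ker ((π.comp φ : A₀ →ₐc[k] B ⧸ K) : A₀ →ₐ[k] B ⧸ K)) ?_ (B ⧸ K) (π.comp φ)
      (Ideal.Quotient.mk_surjective.comp hφ) rfl
    refine lt_of_le_of_ne (fun z hz => ?_) fun he => hy0 ?_
    · rw [← hI] at hz
      show π (φ z) = 0
      rw [show φ z = 0 from hz, map_zero]
    · have h1 : a ∈ I := by
        rw [he]
        show π (φ a) = 0
        rw [ha]
        exact Ideal.Quotient.eq_zero_iff_mem.2 (hK.2 hy)
      rw [← hI] at h1
      rw [← ha]
      exact h1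
  -- the image of Frobenius is unipotent
  letI := HopfPts.subHopfAlgebra hCsub
  let ψ : C →ₐc[k] B := BialgHom.ofAlgHom C.val rfl (AlgHom.ext fun b => HopfPts.map_subComul hCsub b)
  have hψ : Function.Injective ψ := Subtype.val_injective
  have hfilK := isUnipotent_iff_fil.1 hBK
  have hpush : ∀ n (b : B), π b ∈ fil k (B ⧸ K) (B ⧸ K) n → b ^ p ∈ fil k B B n := by
    intro n
    induction n with
    | zero =>
      intro b hb
      rw [fil_zero, Submodule.mem_bot] at hb ⊢
      exact hK.1 (Ideal.Quotient.eq_zero_iff_mem.1 hb)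
    | succ n ih =>
      intro b hb
      refine mem_fil_succ.2 fun f hf => ?_
      obtain ⟨g, hg, hgK⟩ := hdown f.ofConv
      have e : f • (b ^ p) = (toConv g • b) ^ p := by
        simp only [smul_def, dact, LinearMap.comp_apply, coact_regular, WithConv.ofConv_toConv, hcomul]
        exact (hrcon _ _ hg _).1
      rw [e]
      refine ih _ ?_
      let gb : WithConv (B ⧸ K →ₗ[k] k) := toConv (((K.restrictScalars k).liftQ g fun a ha => hgK a ha) ∘ₗ
        (Submodule.Quotient.restrictScalarsEquiv k K).symm.toLinearMap)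
      have hgb : ∀ a, gb.ofConv (π a) = g a := fun a => by
        simp [gb, π, ← Ideal.Quotient.mk_eq_mk]
      have h1 : π (toConv g • b) = gb • π b := by
        rw [CommUnip.smul_map π gb b]
        congr 2
      rw [h1]
      refine mem_fil_succ.1 hb gb ?_
      rw [← map_one π, hgb]
      refine pow_eq_zero_iff hp.out.ne_zero |>.1 ?_
      rw [hg, one_pow, hf]
  have hCu : HopfRep.IsUnipotent k C := by
    refine isUnipotent_iff_fil.2 fun x => ?_
    obtain ⟨b, hb⟩ := hC.1 x.2
    obtain ⟨n, hn⟩ := hfilK (π b)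
    refine ⟨n, UnipH7.fil_of_injective ψ hψ ?_⟩
    show (x : B) ∈ _
    rw [← hb]
    exact hpush n b hn
  -- the Frobenius kernel
  set J := Ideal.map (ψ : C →+* B) (RingHom.ker (Bialgebra.counitAlgHom k C)) with hJ
  haveI : J.IsHopfIdeal k := isHopfIdeal_map ψ
  let πJ : B →ₐc[k] B ⧸ J := Bialgebra.Quotient.mkBialgHom (R := k) J
  have hpJ : ∀ a : B ⧸ J, Coalgebra.counit (R := k) a = 0 → a ^ p = 0 := by
    intro a ha
    obtain ⟨b, rfl⟩ := Ideal.Quotient.mk_surjective a
    have hb : Coalgebra.counit (R := k) b = 0 := (CoalgHomClass.counit_comp_apply πJ b).symm.trans ha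
    rw [← map_pow, Ideal.Quotient.eq_zero_iff_mem]
    refine Ideal.mem_map_of_mem (ψ : C →+* B) (x := (⟨b ^ p, hC.2 ⟨b, rfl⟩⟩ : C)) ?_
    rw [RingHom.mem_ker]
    show Coalgebra.counit (R := k) (⟨b ^ p, hC.2 ⟨b, rfl⟩⟩ : C) = 0
    rw [← CoalgHomClass.counit_comp_apply ψ]
    show Coalgebra.counit (R := k) (b ^ p) = 0
    rw [Bialgebra.counit_pow, hb, zero_pow hp.out.ne_zero]
  haveI : Algebra.FiniteType k (B ⧸ J) :=
    Algebra.FiniteType.of_surjective (Ideal.Quotient.mkₐ k J) Ideal.Quotient.mk_surjective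
  haveI : Algebra.IsIntegral k (B ⧸ J) := ⟨fun a => by
    have hn : IsIntegral k (a - algebraMap k (B ⧸ J) (Coalgebra.counit (R := k) a)) := by
      refine IsIntegral.of_pow hp.out.pos ?_
      rw [hpJ _ (by rw [map_sub, Bialgebra.counit_algebraMap, sub_self])]
      exact isIntegral_zero
    have h := hn.add (isIntegral_algebraMap (R := k) (A := B ⧸ J) (x := Coalgebra.counit (R := k) a))
    rwa [sub_add_cancel] at h⟩
  haveI : Module.Finite k (B ⧸ J) := Algebra.IsIntegral.finite
  have hN : HopfRep.IsUnipotent k (B ⧸ J) := by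
    refine isUnipotent_heightOne hpJ fun f hf => ?_
    let χ : A₀ →ₐc[k] B ⧸ J := πJ.comp φ
    have hχ : Function.Surjective χ := Ideal.Quotient.mk_surjective.comp hφ
    obtain ⟨n, hn⟩ := hL (toConv (f.ofConv ∘ₗ χ.toLinearMap)) fun a b => by
      show f.ofConv (χ (a * b)) = _
      rw [map_mul, hf, CoalgHomClass.counit_comp_apply, CoalgHomClass.counit_comp_apply]
      rfl
    refine ⟨n, WithConv.ext (LinearMap.ext fun y => ?_)⟩
    obtain ⟨a, rfl⟩ := hχ y
    have h := congrArg (fun g => g.ofConv a) ((pow_comp_proj χ f n).trans hn)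
    exact h
  exact UnipH7.unipotent_extension ψ J hJ hCu hN

end Groth.Agent.UnipMu
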