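import Groth.Agent.UnipMuLib.Comm
import Mathlib.Algebra.Lie.Engel

/-!
Groups of height one: unipotent as soon as every tangent vector is nilpotent.
-/

set_option autoImplicit false
set_option backward.isDefEq.respectTransparency false
set_option linter.unusedSectionVars false
set_option linter.style.haveILetI false
set_option maxHeartbeats 800000
universe u

open TensorProduct WithConv

noncomputable section

namespace Groth.Agent.UnipMu

open Groth.Agent.Comodule

attribute [local instance 100] LieRing.ofAssociativeRing

variable {k : Type u} [Field k] {A : Type u} [CommRing A] [HopfAlgebra k A]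

theorem counit_smul (f : WithConv (A →ₗ[k] k)) (z : A) : Coalgebra.counit (R := k) (f • z) = f.ofConv z := by
  have h := conv_apply_smul 1 f z
  rw [_root_.one_mul] at h
  rw [← h]
  simp [LinearMap.convOne_def]

theorem IsDer.sub_comm {f g : WithConv (A →ₗ[k] k)} (hf : IsDer f) (hg : IsDer g) : IsDer (f * g - g * f) := by
  intro a b
  simp only [WithConv.ofConv_sub, LinearMap.sub_apply]
  rw [← conv_apply_smul, ← conv_apply_smul, ← conv_apply_smul, ← conv_apply_smul, ← conv_apply_smul,
    ← conv_apply_smul, hg.leibniz, hf.leibniz, map_add, map_add, hf _ _, hf _ _, hg _ _, hg _ _,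
    counit_smul, counit_smul, counit_smul, counit_smul]
  ring

variable {p : ℕ} [hp : Fact p.Prime] [CharP k p]

/-- The augmentation ideal. -/
abbrev aug (k A : Type u) [Field k] [CommRing A] [HopfAlgebra k A] : Ideal A :=
  RingHom.ker (Bialgebra.counitAlgHom k A)

theorem sub_counit_mem_aug (a : A) : a - algebraMap k A (Coalgebra.counit (R := k) a) ∈ aug k A := by
  rw [RingHom.mem_ker, map_sub, AlgHom.commutes]
  simp

theorem mem_aug_iff {a : A} : a ∈ aug k A ↔ Coalgebra.counit (R := k) a = 0 := RingHom.mem_ker

theorem IsDer.mem_pow {f : WithConv (A →ₗ[k] k)} (hf : IsDer f) :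
    ∀ (n : ℕ) (z : A), z ∈ aug k A ^ (n + 1) → f • z ∈ aug k A ^ n := by
  intro n
  induction n with
  | zero => intro z _; simp
  | succ n ih =>
    intro z hz
    rw [pow_succ] at hz
    refine Submodule.mul_induction_on hz (fun r hr s hs => ?_) (fun r s hr hs => ?_)
    · rw [hf.leibniz]
      refine add_mem (Ideal.mul_mem_right _ _ hr) ?_
      rw [pow_succ]
      exact Ideal.mul_mem_mul (ih r hr) hs
    · rw [smul_add]
      exact add_mem hr hs

/-- In a group of height one, the elements killed by all invariant derivations are the constants. -/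
theorem eq_const_of_der [Module.Finite k A]
    (hA : ∀ a : A, Coalgebra.counit (R := k) a = 0 → a ^ p = 0) (z : A)
    (hz : ∀ f : WithConv (A →ₗ[k] k), IsDer f → f • z = 0) :
    z = algebraMap k A (Coalgebra.counit (R := k) z) := by
  classical
  haveI : IsNoetherianRing A := IsNoetherianRing.of_finite k A
  haveI : Module.Finite k (aug k A).Cotangent :=
    Module.Finite.of_surjective ((aug k A).toCotangent.restrictScalars k) (Ideal.toCotangent_surjective _)
  let b := Module.finBasis k (aug k A).Cotangent
  set d := Module.finrank k (aug k A).Cotangent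
  choose x hx using fun i => Ideal.toCotangent_surjective (aug k A) (b i)
  -- the projection to the cotangent space
  let q : A →ₗ[k] aug k A :=
    { toFun := fun a => ⟨a - algebraMap k A (Coalgebra.counit (R := k) a), sub_counit_mem_aug a⟩
      map_add' := fun a c => Subtype.ext (by
        show a + c - _ = _
        simp only [map_add, Submodule.coe_add]
        ring)
      map_smul' := fun r a => Subtype.ext (by
        show r • a - _ = r • (a - _)
        simp only [Algebra.smul_def, Bialgebra.counit_mul, Bialgebra.counit_algebraMap, map_mul]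
        ring) }
  let L : A →ₗ[k] (aug k A).Cotangent := ((aug k A).toCotangent.restrictScalars k).comp q
  have hL : ∀ a c : A, L (a * c) = Coalgebra.counit (R := k) a • L c + Coalgebra.counit (R := k) c • L a := by
    intro a c
    have h2 : (q (a * c) - (Coalgebra.counit (R := k) a • q c + Coalgebra.counit (R := k) c • q a) : A) ∈
        aug k A ^ 2 := by
      have e : (a * c - algebraMap k A (Coalgebra.counit (R := k) (a * c)) -
          (Coalgebra.counit (R := k) a • (c - algebraMap k A (Coalgebra.counit (R := k) c)) +
           Coalgebra.counit (R := k) c • (a - algebraMap k A (Coalgebra.counit (R := k) a)))) =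
          (a - algebraMap k A (Coalgebra.counit (R := k) a)) * (c - algebraMap k A (Coalgebra.counit (R := k) c)) := by
        simp only [Algebra.smul_def, Bialgebra.counit_mul, map_mul]
        ring
      show (a * c - algebraMap k A (Coalgebra.counit (R := k) (a * c)) -
          (Coalgebra.counit (R := k) a • (c - algebraMap k A (Coalgebra.counit (R := k) c)) +
           Coalgebra.counit (R := k) c • (a - algebraMap k A (Coalgebra.counit (R := k) a)))) ∈ _
      rw [e, sq]
      exact Ideal.mul_mem_mul (sub_counit_mem_aug a) (sub_counit_mem_aug c)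
    have h3 := ((aug k A).toCotangent_eq (x := q (a * c))
      (y := Coalgebra.counit (R := k) a • q c + Coalgebra.counit (R := k) c • q a)).2 h2
    show ((aug k A).toCotangent.restrictScalars k) (q (a * c)) = _
    rw [LinearMap.restrictScalars_apply, h3, ← LinearMap.restrictScalars_apply k, map_add, map_smul, map_smul]
    rfl
  let f : Fin d → WithConv (A →ₗ[k] k) := fun i => toConv ((b.coord i).comp L)
  have hf : ∀ i, IsDer (f i) := fun i a c => by
    show b.coord i (L (a * c)) = _ * b.coord i (L c) + b.coord i (L a) * _
    rw [hL, map_add, map_smul, map_smul, smul_eq_mul, smul_eq_mul, mul_comm (b.coord i (L a))]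
  have hfx : ∀ i j, (f i).ofConv (x j : A) = if j = i then 1 else 0 := fun i j => by
    show b.coord i (L (x j : A)) = _
    have e : q (x j : A) = x j := Subtype.ext (by
      show (x j : A) - _ = _
      rw [mem_aug_iff.1 (x j).2, map_zero, sub_zero])
    show b.coord i ((aug k A).toCotangent (q (x j : A))) = _
    rw [e, hx, Module.Basis.coord_apply, Module.Basis.repr_self, Finsupp.single_apply]
  -- `x` generates the augmentation ideal modulo its square
  have hgen : ∀ a ∈ aug k A, ∃ c : Fin d → k, a - ∑ i, c i • (x i : A) ∈ aug k A ^ 2 := by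
    intro a ha
    refine ⟨fun i => b.coord i ((aug k A).toCotangent ⟨a, ha⟩), ?_⟩
    have h : (aug k A).toCotangent ⟨a, ha⟩ =
        (aug k A).toCotangent (∑ i, b.coord i ((aug k A).toCotangent ⟨a, ha⟩) • x i) := by
      conv_lhs => rw [← b.sum_repr ((aug k A).toCotangent ⟨a, ha⟩)]
      rw [← LinearMap.restrictScalars_apply k _ (∑ i, _), map_sum]
      refine Finset.sum_congr rfl fun i _ => ?_
      rw [map_smul, LinearMap.restrictScalars_apply, hx]
      rfl
    have h4 := (aug k A).toCotangent_eq.1 h
    simpa using h4
  let X : (Fin d → ℕ) → A := fun a => ∏ i, (x i : A) ^ a i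
  let δ : Fin d → (Fin d → ℕ) := fun j l => if l = j then 1 else 0
  have hδ : ∀ j l, δ j l = if l = j then 1 else 0 := fun j l => rfl
  obtain ⟨S, hS⟩ : ∃ S : ℕ → Finset (Fin d → ℕ), ∀ n a, a ∈ S n ↔ (∀ i, a i < p) ∧ ∑ i, a i = n :=
    ⟨fun n => (Fintype.piFinset fun _ => Finset.range p).filter fun a => ∑ i, a i = n,
      fun n a => by simp only [Finset.mem_filter, Fintype.mem_piFinset, Finset.mem_range]⟩
  have hXmem : ∀ a, X a ∈ aug k A ^ ∑ i, a i := fun a => by
    rw [← Finset.prod_pow_eq_pow_sum]
    exact Ideal.prod_mem_prod fun i _ => Ideal.pow_mem_pow (x i).2 _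
  have hX0 : X 0 = 1 := by simp [X]
  have hXsucc : ∀ a j, (x j : A) * X a = X (a + δ j) := fun a j => by
    have e : ∏ i, (x i : A) ^ δ j i = (x j : A) := by
      rw [Finset.prod_eq_single_of_mem j (Finset.mem_univ j) (fun i _ hi => by rw [hδ, if_neg hi, pow_zero]),
        hδ, if_pos rfl, pow_one]
    show _ = ∏ i, (x i : A) ^ (a i + δ j i)
    simp only [pow_add]
    rw [Finset.prod_mul_distrib, e, mul_comm]
  have hsum : ∀ (a : Fin d → ℕ) j, ∑ i, (a + δ j) i = (∑ i, a i) + 1 := fun a j => by
    show ∑ i, (a i + δ j i) = _
    rw [Finset.sum_add_distrib, Finset.sum_eq_single_of_mem (f := δ j) j (Finset.mem_univ j)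
      (fun i _ hi => by rw [hδ, if_neg hi]), hδ, if_pos rfl]
  have hsub : ∀ (a : Fin d → ℕ) j, a j ≠ 0 → a - δ j + δ j = a := fun a j hj => funext fun l => by
    show a l - δ j l + δ j l = a l
    rw [hδ]
    split_ifs with h
    · subst h; omega
    · omega
  have hsum' : ∀ (a : Fin d → ℕ) j, a j ≠ 0 → (∑ i, (a - δ j) i) + 1 = ∑ i, a i := fun a j hj => by
    rw [← hsum, hsub a j hj]
  have hexj : ∀ (a : Fin d → ℕ) (n : ℕ), ∑ i, a i = n + 1 → ∃ j, a j ≠ 0 := fun a n ha => by
    by_contra hcon
    push Not at hcon
    rw [Finset.sum_eq_zero fun i _ => hcon i] at ha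
    omega
  -- monomials span
  have hspan : ∀ n, ∀ w ∈ aug k A ^ n, ∃ c : (Fin d → ℕ) → k, w - ∑ a ∈ S n, c a • X a ∈ aug k A ^ (n + 1) := by
    intro n
    induction n with
    | zero =>
      intro w _
      refine ⟨fun _ => Coalgebra.counit (R := k) w, ?_⟩
      have hS0 : S 0 = {0} := by
        ext e
        rw [hS, Finset.mem_singleton]
        refine ⟨fun h => funext fun i => ?_, fun h => by subst h; exact ⟨fun _ => hp.out.pos, by simp⟩⟩
        exact (Finset.sum_eq_zero_iff.1 h.2) i (Finset.mem_univ i)
      rw [hS0, Finset.sum_singleton, hX0, zero_add, pow_one, ← Algebra.algebraMap_eq_smul_one]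
      exact sub_counit_mem_aug w
    | succ n ih =>
      intro w hw
      rw [pow_succ] at hw
      refine Submodule.mul_induction_on hw (fun r hr s hs => ?_) (fun r s hr hs => ?_)
      · obtain ⟨c, hc⟩ := ih r hr
        obtain ⟨c₁, hc₁⟩ := hgen s hs
        refine ⟨fun e => ∑ j, if e j = 0 then 0 else c (e - δ j) * c₁ j, ?_⟩
        have htop : ∀ a ∈ S n, ∀ j, (a + δ j) ∈ S (n + 1) ∨ X (a + δ j) = 0 := by
          intro a ha j
          obtain ⟨ha1, ha2⟩ := (hS n a).1 ha
          by_cases hj : a j + 1 < p
          · refine Or.inl ((hS _ _).2 ⟨fun l => ?_, by rw [hsum, ha2]⟩)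
            show a l + δ j l < p
            rw [hδ]
            split_ifs with h
            · subst h; exact hj
            · exact ha1 l
          · refine Or.inr (Finset.prod_eq_zero (Finset.mem_univ j) ?_)
            rw [show (a + δ j) j = p from by
              show a j + δ j j = p
              rw [hδ, if_pos rfl]; have := ha1 j; omega]
            exact hA _ (mem_aug_iff.1 (x j).2)
        have he : ∑ e ∈ S (n + 1), (∑ j, if e j = 0 then 0 else c (e - δ j) * c₁ j) • X e =
            (∑ a ∈ S n, c a • X a) * ∑ j, c₁ j • (x j : A) := by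
          simp only [Finset.sum_smul, Finset.mul_sum]
          rw [Finset.sum_comm]
          refine Finset.sum_congr rfl fun j _ => ?_
          rw [Finset.sum_mul]
          calc ∑ e ∈ S (n + 1), (if e j = 0 then 0 else c (e - δ j) * c₁ j) • X e
              = ∑ e ∈ (S (n + 1)).filter (fun e => e j ≠ 0), (c (e - δ j) * c₁ j) • X e := by
                rw [Finset.sum_filter]
                refine Finset.sum_congr rfl fun e _ => ?_
                by_cases h : e j = 0 <;> simp [h]
            _ = ∑ a ∈ (S n).filter (fun a => a + δ j ∈ S (n + 1)), (c a * c₁ j) • X (a + δ j) := by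
                refine (Finset.sum_nbij' (fun a => a + δ j) (fun e => e - δ j) ?_ ?_ ?_ ?_ ?_).symm
                · intro a ha
                  simp only [Finset.mem_coe, Finset.mem_filter] at ha ⊢
                  refine ⟨ha.2, ?_⟩
                  show a j + δ j j ≠ 0
                  rw [hδ, if_pos rfl]; omega
                · intro e he
                  simp only [Finset.mem_coe, Finset.mem_filter] at he ⊢
                  obtain ⟨he1, he2⟩ := (hS _ _).1 he.1
                  refine ⟨(hS _ _).2 ⟨fun l => lt_of_le_of_lt (Nat.sub_le _ _) (he1 l), ?_⟩, ?_⟩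
                  · have := hsum' e j he.2; omega
                  · rw [hsub e j he.2]; exact he.1
                · intro a _; exact funext fun l => Nat.add_sub_cancel (a l) (δ j l)
                · intro e he
                  simp only [Finset.mem_coe, Finset.mem_filter] at he
                  exact hsub e j he.2
                · intro a _
                  rw [show a + δ j - δ j = a from funext fun l => Nat.add_sub_cancel (a l) (δ j l)]
            _ = ∑ a ∈ S n, c a • X a * c₁ j • (x j : A) := by
                rw [Finset.sum_filter]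
                refine Finset.sum_congr rfl fun a ha => ?_
                rw [smul_mul_smul_comm, mul_comm (X a), hXsucc]
                split_ifs with h
                · rfl
                · rw [((htop a ha j).resolve_left h), smul_zero]
        rw [he]
        have hmem : ∑ a ∈ S n, c a • X a ∈ aug k A ^ n :=
          Submodule.sum_mem _ fun a ha => Submodule.smul_of_tower_mem _ _ (((hS n a).1 ha).2 ▸ hXmem a)
        have e : r * s - (∑ a ∈ S n, c a • X a) * ∑ j, c₁ j • (x j : A) =
            (r - ∑ a ∈ S n, c a • X a) * s + (∑ a ∈ S n, c a • X a) * (s - ∑ j, c₁ j • (x j : A)) := by ring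
        rw [e]
        refine add_mem ?_ ?_
        · rw [pow_succ]; exact Ideal.mul_mem_mul hc hs
        · rw [show n + 1 + 1 = n + 2 from rfl, pow_add]; exact Ideal.mul_mem_mul hmem hc₁
      · obtain ⟨c, hc⟩ := hr
        obtain ⟨c₁, hc₁⟩ := hs
        refine ⟨c + c₁, ?_⟩
        simp only [Pi.add_apply, add_smul, Finset.sum_add_distrib]
        rw [add_sub_add_comm]
        exact add_mem hc hc₁
  -- derivative of a monomial
  have hder : ∀ (n : ℕ) (a : Fin d → ℕ), ∑ i, a i = n + 1 → ∀ i,
      f i • X a - (a i : k) • X (a - δ i) ∈ aug k A ^ (n + 1) := by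
    have hxj : ∀ i j, f i • (x j : A) - (if j = i then (1 : A) else 0) ∈ aug k A := fun i j => by
      rw [mem_aug_iff, map_sub, counit_smul, hfx]
      split_ifs <;> simp
    intro n
    induction n with
    | zero =>
      intro a ha i
      obtain ⟨j, hj⟩ := hexj a 0 ha
      have h0 : a - δ j = 0 := funext fun l => by
        have h := hsum' a j hj
        rw [ha, add_eq_right] at h
        exact Finset.sum_eq_zero_iff.1 h l (Finset.mem_univ l)
      have ha' : a = δ j := by rw [← hsub a j hj, h0, zero_add]
      subst ha'
      have hX : X (δ j) = (x j : A) := by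
        have h := hXsucc 0 j
        rw [hX0, _root_.mul_one, zero_add] at h
        exact h.symm
      rw [hX, zero_add, pow_one]
      convert hxj i j using 2
      rw [hδ]
      by_cases hji : j = i
      · subst hji
        rw [if_pos rfl, if_pos rfl, Nat.cast_one, one_smul, show δ j - δ j = 0 from funext fun l => Nat.sub_self _, hX0]
      · rw [if_neg (Ne.symm hji), if_neg hji, Nat.cast_zero, zero_smul]
    | succ n ih =>
      intro a ha i
      obtain ⟨j, hj⟩ := hexj a (n + 1) ha
      obtain ⟨a', rfl⟩ : ∃ a', a = a' + δ j := ⟨a - δ j, (hsub a j hj).symm⟩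
      rw [hsum, add_left_inj] at ha
      have h1 := ih a' ha i
      rw [← hXsucc, (hf i).leibniz]
      have hXa' : X a' ∈ aug k A ^ (n + 1) := ha ▸ hXmem a'
      have hm1 : (x j : A) * (f i • X a' - (a' i : k) • X (a' - δ i)) ∈ aug k A ^ (n + 1 + 1) := by
        rw [pow_succ']; exact Ideal.mul_mem_mul (x j).2 h1
      have hm2 : (f i • (x j : A) - (if j = i then (1 : A) else 0)) * X a' ∈ aug k A ^ (n + 1 + 1) := by
        rw [pow_succ']; exact Ideal.mul_mem_mul (hxj i j) hXa'
      have key : (((a' + δ j) i : ℕ) : k) • X (a' + δ j - δ i) =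
          (x j : A) * ((a' i : k) • X (a' - δ i)) + (if j = i then (1 : A) else 0) * X a' := by
        rw [mul_smul_comm, hXsucc]
        show ((a' i + δ j i : ℕ) : k) • _ = _
        rw [hδ]
        by_cases hji : j = i
        · subst hji
          rw [if_pos rfl, if_pos rfl, _root_.one_mul,
            show a' + δ j - δ j = a' from funext fun l => Nat.add_sub_cancel (a' l) (δ j l), Nat.cast_add, Nat.cast_one,
            add_smul, one_smul]
          congr 1
          by_cases h0 : a' j = 0
          · rw [h0, Nat.cast_zero, zero_smul, zero_smul]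
          · rw [hsub a' j h0]
        · rw [if_neg (Ne.symm hji), if_neg hji, zero_mul, add_zero, add_zero]
          by_cases h0 : a' i = 0
          · rw [h0, Nat.cast_zero, zero_smul, zero_smul]
          · congr 2
            funext l
            show a' l + δ j l - δ i l = a' l - δ i l + δ j l
            rw [hδ, hδ]
            by_cases hli : l = i
            · subst hli; rw [if_neg (Ne.symm hji)]; omega
            · rw [if_neg hli]; omega
      rw [key]
      convert add_mem hm1 hm2 using 1
      ring
  -- one derivative lowers the degree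
  have hred : ∀ n, (∀ c : (Fin d → ℕ) → k, ∑ a ∈ S n, c a • X a ∈ aug k A ^ (n + 1) → ∀ a ∈ S n, c a = 0) →
      ∀ c : (Fin d → ℕ) → k, (∀ i, f i • (∑ a ∈ S (n + 1), c a • X a) ∈ aug k A ^ (n + 1)) →
        ∀ a ∈ S (n + 1), c a = 0 := by
    intro n ih c hc a ha
    obtain ⟨ha1, ha2⟩ := (hS _ a).1 ha
    obtain ⟨i, hi⟩ := hexj a n ha2
    have h2 : ∑ e ∈ S (n + 1), c e • ((e i : k) • X (e - δ i)) ∈ aug k A ^ (n + 1) := by
      have h3 := sub_mem (hc i) (Submodule.sum_mem _ (t := S (n + 1))
        (f := fun e => c e • (f i • X e - (e i : k) • X (e - δ i))) fun e he =>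
        Submodule.smul_of_tower_mem _ _ (hder n e ((hS _ e).1 he).2 i))
      convert h3 using 1
      rw [Finset.smul_sum, ← Finset.sum_sub_distrib]
      refine Finset.sum_congr rfl fun e _ => ?_
      rw [smul_comm (f i) (c e) (X e), smul_sub, sub_sub_cancel]
    let c' : (Fin d → ℕ) → k := fun e => if e i + 1 < p then c (e + δ i) * ((e i : k) + 1) else 0
    have h4 : ∑ e ∈ S n, c' e • X e = ∑ e ∈ S (n + 1), c e • ((e i : k) • X (e - δ i)) := by
      have hl : ∑ e ∈ S n, c' e • X e = ∑ e ∈ (S n).filter (fun e => e i + 1 < p), c' e • X e := by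
        rw [Finset.sum_filter]
        refine Finset.sum_congr rfl fun e _ => ?_
        by_cases h : e i + 1 < p <;> simp [c', h]
      have hr : ∑ e ∈ S (n + 1), c e • ((e i : k) • X (e - δ i)) =
          ∑ e ∈ (S (n + 1)).filter (fun e => e i ≠ 0), c e • ((e i : k) • X (e - δ i)) := by
        rw [Finset.sum_filter]
        refine Finset.sum_congr rfl fun e _ => ?_
        by_cases h : e i = 0 <;> simp [h]
      rw [hl, hr]
      refine Finset.sum_nbij' (fun e => e + δ i) (fun e => e - δ i) ?_ ?_ ?_ ?_ ?_
      · intro e he
        simp only [Finset.mem_coe, Finset.mem_filter, hS] at he ⊢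
        refine ⟨⟨fun l => ?_, by rw [hsum, he.1.2]⟩, ?_⟩
        · show e l + δ i l < p
          rw [hδ]
          split_ifs with h
          · subst h; exact he.2
          · exact he.1.1 l
        · show e i + δ i i ≠ 0
          rw [hδ, if_pos rfl]; omega
      · intro e he
        simp only [Finset.mem_coe, Finset.mem_filter, hS] at he ⊢
        refine ⟨⟨fun l => lt_of_le_of_lt (Nat.sub_le _ _) (he.1.1 l), ?_⟩, ?_⟩
        · have := hsum' e i he.2; omega
        · show e i - δ i i + 1 < p
          rw [hδ, if_pos rfl]; have := he.1.1 i; omega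
      · intro e _; exact funext fun l => Nat.add_sub_cancel (e l) (δ i l)
      · intro e he
        simp only [Finset.mem_coe, Finset.mem_filter] at he
        exact hsub e i he.2
      · intro e he
        rw [Finset.mem_filter] at he
        rw [show e + δ i - δ i = e from funext fun l => Nat.add_sub_cancel (e l) (δ i l), smul_smul]
        show c' e • X e = (c (e + δ i) * ((e i + δ i i : ℕ) : k)) • X e
        rw [hδ, if_pos rfl, Nat.cast_add, Nat.cast_one]
        simp only [c', if_pos he.2]
    rw [← h4] at h2
    have h5 := ih c' h2 (a - δ i) ((hS _ _).2 ⟨fun l => lt_of_le_of_lt (Nat.sub_le _ _) (ha1 l), by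
      have := hsum' a i hi; omega⟩)
    have hlt := ha1 i
    have hai : (a - δ i) i = a i - 1 := by
      show a i - δ i i = _
      rw [hδ, if_pos rfl]
    simp only [c', hsub a i hi, hai] at h5
    rw [if_pos (by omega)] at h5
    have hne : ((a i - 1 : ℕ) : k) + 1 ≠ 0 := by
      rw [← Nat.cast_one (R := k), ← Nat.cast_add, show a i - 1 + 1 = a i by omega, Ne,
        CharP.cast_eq_zero_iff k p]
      exact fun hdvd => absurd (Nat.le_of_dvd (by omega) hdvd) (by omega)
    exact (mul_eq_zero.1 h5).resolve_right hne
  -- monomials are independent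
  have hind : ∀ n (c : (Fin d → ℕ) → k), ∑ a ∈ S n, c a • X a ∈ aug k A ^ (n + 1) → ∀ a ∈ S n, c a = 0 := by
    intro n
    induction n with
    | zero =>
      intro c hc a ha
      have ha0 : ∀ e ∈ S 0, e = 0 := fun e he =>
        funext fun l => Finset.sum_eq_zero_iff.1 ((hS _ _).1 he).2 l (Finset.mem_univ l)
      have hS0 : S 0 = {0} := Finset.eq_singleton_iff_unique_mem.2 ⟨ha0 a ha ▸ ha, ha0⟩
      rw [hS0, Finset.sum_singleton, hX0, zero_add, pow_one, mem_aug_iff, map_smul, Bialgebra.counit_one,
        smul_eq_mul, _root_.mul_one] at hc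
      rw [ha0 a ha, hc]
    | succ n ih => exact fun c hc => hred n ih c fun i => (hf i).mem_pow (n + 1) _ hc
  -- conclusion
  obtain ⟨N, hN⟩ : ∃ N, aug k A ^ N = ⊥ := by
    refine (Ideal.FG.isNilpotent_iff_le_nilradical (IsNoetherian.noetherian _)).2 fun a ha => ?_
    exact ⟨p, hA a (mem_aug_iff.1 ha)⟩
  have hmem : ∀ n, z - algebraMap k A (Coalgebra.counit (R := k) z) ∈ aug k A ^ (n + 1) := by
    intro n
    induction n with
    | zero => rw [zero_add, pow_one]; exact sub_counit_mem_aug z
    | succ n ih =>
      obtain ⟨c, hc⟩ := hspan (n + 1) _ ih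
      have hc0 : ∀ a ∈ S (n + 1), c a = 0 := by
        refine hred n (hind n) c fun i => ?_
        have h1 := (hf i).mem_pow (n + 1) _ hc
        have h10 : f i • (1 : A) = 0 := by
          have := (hf i).leibniz 1 1
          simpa using this
        rw [smul_sub, smul_sub, hz _ (hf i), Algebra.algebraMap_eq_smul_one, smul_comm (f i), h10, smul_zero,
          sub_zero, zero_sub, neg_mem_iff] at h1
        exact h1
      rw [Finset.sum_eq_zero (fun a ha => by rw [hc0 a ha, zero_smul]), sub_zero] at hc
      exact hc
  have h := hmem N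
  rw [pow_succ, hN] at h
  simpa [sub_eq_zero] using h

/-- A finite group of height one with nilpotent tangent vectors is unipotent. -/
theorem isUnipotent_heightOne [Module.Finite k A]
    (hA : ∀ a : A, Coalgebra.counit (R := k) a = 0 → a ^ p = 0)
    (hL : ∀ f : WithConv (A →ₗ[k] k), IsDer f → IsNilpotent f) :
    HopfRep.IsUnipotent k A := by
  let op : WithConv (A →ₗ[k] k) →ₗ[k] Module.End k A :=
    { toFun := fun f => DistribSMul.toLinearMap k A f
      map_add' := fun f g => LinearMap.ext fun a => add_smul f g a
      map_smul' := fun c f => LinearMap.ext fun a => smul_assoc c f a }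
  have hopmul : ∀ f g, op (f * g) = op f * op g := fun f g => LinearMap.ext fun a => mul_smul f g a
  let L : LieSubalgebra k (Module.End k A) :=
    { carrier := {T | ∃ f, IsDer f ∧ op f = T}
      zero_mem' := ⟨0, fun a b => by simp, map_zero op⟩
      add_mem' := by
        rintro _ _ ⟨f, hf, rfl⟩ ⟨g, hg, rfl⟩
        exact ⟨f + g, fun a b => by simp [hf a b, hg a b]; ring, map_add op f g⟩
      smul_mem' := by
        rintro c _ ⟨f, hf, rfl⟩
        exact ⟨c • f, fun a b => by simp [hf a b]; ring, map_smul op c f⟩
      lie_mem' := by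
        rintro _ _ ⟨f, hf, rfl⟩ ⟨g, hg, rfl⟩
        exact ⟨f * g - g * f, hf.sub_comm hg, by rw [map_sub, hopmul, hopmul, Ring.lie_def]⟩ }
  have hnil : LieModule.IsNilpotent L A := by
    rw [LieModule.isNilpotent_iff_forall' (R := k)]
    rintro ⟨_, f, hf, rfl⟩
    obtain ⟨n, hn⟩ := hL f hf
    refine ⟨n, ?_⟩
    show (op f) ^ n = 0
    have : ∀ m, (op f) ^ m = op (f ^ m) := by
      intro m
      induction m with
      | zero => exact LinearMap.ext fun a => (one_smul (WithConv (A →ₗ[k] k)) a).symm
      | succ m ih => rw [pow_succ, ih, pow_succ, hopmul]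
    rw [this, hn, map_zero]
  obtain ⟨n, hn⟩ := (LieModule.isNilpotent_iff_exists_ucs_eq_top k).1 hnil
  refine isUnipotent_iff_fil.2 fun a => ⟨n, ?_⟩
  have key : ∀ j, ∀ w ∈ (⊥ : LieSubmodule k L A).ucs j, w ∈ fil k A A j := by
    intro j
    induction j with
    | zero => intro w hw; rw [fil_zero, Submodule.mem_bot]; simpa using hw
    | succ j ih =>
      intro w hw
      rw [LieSubmodule.ucs_succ, LieSubmodule.mem_normalizer] at hw
      have hder : ∀ g, IsDer g → g • w ∈ fil k A A j := fun g hg => ih _ (hw ⟨op g, g, hg, rfl⟩)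
      let T : Submodule k (WithConv (A →ₗ[k] k)) :=
        (fil k A A j).comap ((LinearMap.applyₗ w).comp op)
      let U : Submodule k (A →ₗ[k] k) :=
        Submodule.span k {φ | ∃ f g : WithConv (A →ₗ[k] k), IsDer g ∧ φ = (f * g).ofConv}
      have hU : U ≤ T.comap (WithConv.linearEquiv k (A →ₗ[k] k)).symm.toLinearMap := by
        refine Submodule.span_le.2 ?_
        rintro _ ⟨f, g, hg, rfl⟩
        show (f * g) • w ∈ fil k A A j
        rw [mul_smul]
        exact smul_mem_fil f (hder g hg)
      refine mem_fil_succ.2 fun φ hφ => ?_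
      refine hU (?_ : φ.ofConv ∈ U)
      rw [← Subspace.dualCoannihilator_dualAnnihilator_eq (W := U), Submodule.mem_dualAnnihilator]
      intro z hz
      rw [Submodule.mem_dualCoannihilator] at hz
      have hzc := eq_const_of_der hA z fun g hg => by
        refine (Module.forall_dual_apply_eq_zero_iff k _).1 fun f => ?_
        exact (conv_apply_smul (toConv f) g z).trans (hz _ (Submodule.subset_span ⟨toConv f, g, hg, rfl⟩))
      rw [hzc, Algebra.algebraMap_eq_smul_one, map_smul, hφ, smul_zero]
  exact key n a (by rw [hn]; trivial)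

end Groth.Agent.UnipMu
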